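import Cfsg.Agent.Lib.OddLocal.AppC.Cells

/-!
# The final configuration is contradictory

Raising a multiplier to the `p`-th power does not change the prime field parts of the scalars in
the exchange identity, so the identity yields rotations moved into rotations.  Their centres are
unique, hence lie in the prime field; this makes the conjugation by `t` trivial on `U`, and that is
absurd.
-/

set_option autoImplicit false

namespace Cfsg.Agent.AppC

open Subgroup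

variable {G F : Type*} [Group G] [Field F] [Fintype F] {p q : ℕ} (c : Cfg G F p q)

namespace Cfg

lemma eq_one_of_shift_rat (a : ℤ) {g : G} (hg : g ∈ c.U)
    (h : c.psi (c.shift a g) ^ p = c.psi (c.shift a g)) : g = 1 := by
  have h1 := c.eq_one_of_rat (c.shift_mem a hg) h
  calc g = c.shift (-a) (c.shift a g) := by rw [c.shift_shift, neg_add_cancel, c.shift_zero]
    _ = 1 := by rw [h1]; simp [shift]

/-- Scalars of the `p`-th power. -/
lemma scalar_pow {a κ : ℤ} {g W : G} (hg : g ∈ c.U) (hW : W ∈ c.U)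
    (h : 1 - c.psi (c.shift a g) = (κ : F) * c.psi W) :
    1 - c.psi (c.shift a (g ^ p)) = (κ : F) * c.psi (W ^ p) := by
  have := Fact.mk c.prime_p
  have := c.charP
  rw [c.shift_pow, c.psi_pow (c.shift_mem a hg), c.psi_pow hW]
  have h2 := congrArg (fun z => z ^ p) h
  simp only [sub_pow_char, one_pow, mul_pow, c.rat_intCast] at h2
  exact h2

/-- The centres attached to a multiplier and a pair of exponents. -/
lemma centre {n C κn κC : ℤ} {g Wn WC : G} (hg : g ∈ c.U) (hg1 : g ≠ 1) (hWn : Wn ∈ c.U)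
    (hWC : WC ∈ c.U) (hn0 : (n : F) ≠ 0) (hC0 : (C : F) ≠ 0) (hκn : (κn : F) ≠ 0)
    (hne : ((n - C : ℤ) : F) ≠ 0)
    (hn : 1 - c.psi (c.shift n g) = (κn : F) * c.psi Wn)
    (hC : 1 - c.psi (c.shift C g) = (κC : F) * c.psi WC) :
    let vn := c.shift (-n) Wn
    let vC := c.shift (-C) WC
    let x := vn⁻¹ * vC
    x ≠ 1 ∧ x ^ p ≠ x ∧ ∃ π π' : F,
      c.rot π (x * (x ^ p)⁻¹) * c.bel n (C * κn) = c.bel n (C * κn) * c.rot π' (x * (x ^ p)⁻¹) ∧
      (π * c.psi vn + ((n - C : ℤ) : F)) * c.psi vC ^ p =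
        (π * c.psi vn ^ p + ((n - C : ℤ) : F)) * c.psi vC ∧
      (π' * c.psi vn + ((n - C : ℤ) : F) * c.psi g) * c.psi vC ^ p =
        (π' * c.psi vn ^ p + ((n - C : ℤ) : F) * c.psi g ^ p) * c.psi vC := by
  intro vn vC x
  set D : F := ((n - C : ℤ) : F) with hD
  have hvn : vn ∈ c.U := c.shift_mem _ hWn
  have hvC : vC ∈ c.U := c.shift_mem _ hWC
  have hxU : x ∈ c.U := c.U.mul_mem (c.U.inv_mem hvn) hvC
  have hk : ((C * κn : ℤ) : F) ≠ 0 := by rw [Int.cast_mul]; exact mul_ne_zero hC0 hκn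
  have e1 := c.exchange hg hWn hWC hn hC
  have e2 := c.exchange (c.U.pow_mem hg p) (c.U.pow_mem hWn p) (c.U.pow_mem hWC p)
    (c.scalar_pow hg hWn hn) (c.scalar_pow hg hWC hC)
  rw [c.shift_pow, c.shift_pow, c.psi_pow hvC, c.psi_pow hvn, c.psi_pow hg] at e2
  change c.bel C (n * κC) =
    c.pt (D / c.psi vC ^ p) * ((vC ^ p)⁻¹ * vn ^ p) * c.bel n (C * κn) *
      (c.pt (-(D * c.psi g ^ p / c.psi vn ^ p)) * ((vn ^ p)⁻¹ * vC ^ p)) at e2
  change c.bel C (n * κC) =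
    c.pt (D / c.psi vC) * (vC⁻¹ * vn) * c.bel n (C * κn) *
      (c.pt (-(D * c.psi g / c.psi vn)) * (vn⁻¹ * vC)) at e1
  set Pn := c.psi vn with hPn
  set PC := c.psi vC with hPC
  have hPn0 : Pn ≠ 0 := c.psi_ne _ hvn
  have hPC0 : PC ≠ 0 := c.psi_ne _ hvC
  have hx1 : x ≠ 1 := by
    intro hx
    have hvv : vn = vC := inv_mul_eq_one.mp hx
    rw [← hvv] at e1 e2
    simp only [inv_mul_cancel, mul_one] at e1 e2
    have hPP : PC = Pn := by rw [hPC, hPn, hvv]
    rw [hPP] at e1 e2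
    have key : c.pt (-(D / Pn ^ p) + D / Pn) * c.bel n (C * κn)
        = c.bel n (C * κn) *
          c.pt (-(D * c.psi g ^ p / Pn ^ p) + -(-(D * c.psi g / Pn))) := by
      rw [c.pt_add, c.pt_add, c.pt_neg (D / Pn ^ p), c.pt_neg (-(D * c.psi g / Pn))]
      have h := e1.symm.trans e2
      calc (c.pt (D / Pn ^ p))⁻¹ * c.pt (D / Pn) * c.bel n (C * κn)
          = (c.pt (D / Pn ^ p))⁻¹ *
              (c.pt (D / Pn) * c.bel n (C * κn) * c.pt (-(D * c.psi g / Pn))) *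
              (c.pt (-(D * c.psi g / Pn)))⁻¹ := by group
        _ = _ := by rw [h]; group
    obtain ⟨h0, -⟩ := c.transport_P hn0 hk key
    have hrat : Pn ^ p = Pn := by
      rw [neg_add_eq_zero, div_eq_div_iff (pow_ne_zero _ hPn0) hPn0, mul_right_inj' hne] at h0
      exact h0.symm
    have hv1 : vn = 1 := c.eq_one_of_rat hvn hrat
    have hW1 : Wn = 1 := by
      calc Wn = c.shift n vn := by
            simp only [vn]; rw [c.shift_shift, add_neg_cancel, c.shift_zero]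
        _ = 1 := by rw [hv1]; simp [shift]
    rw [hW1, c.psi_one, mul_one] at hn
    refine hg1 (c.eq_one_of_shift_rat n hg ?_)
    have : c.psi (c.shift n g) = ((1 - κn : ℤ) : F) := by
      push_cast; linear_combination -hn
    rw [this, c.rat_intCast]
  have hxp : x ^ p ≠ x := by
    intro h
    refine hx1 (c.eq_one_of_rat hxU ?_)
    rw [← c.psi_pow hxU, h]
  refine ⟨hx1, hxp, ?_⟩
  have hcomm : Commute (vn⁻¹) vC := c.U_comm (c.U.inv_mem hvn) hvC
  have hxpow : x ^ p = (vn ^ p)⁻¹ * vC ^ p := by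
    simp only [x]; rw [hcomm.mul_pow, inv_pow]
  set u := x * (x ^ p)⁻¹ with hu
  have huU : u ∈ c.U := c.U.mul_mem hxU (c.U.inv_mem (c.U.pow_mem hxU p))
  have hu1 : u ≠ 1 := fun h => hxp (mul_inv_eq_one.mp h).symm
  have hψx : c.psi x = PC / Pn := by
    simp only [x]; rw [c.psi_mul _ (c.U.inv_mem hvn) _ hvC, c.psi_inv hvn, inv_mul_eq_div]
  have hψu : c.psi u = PC * Pn ^ p / (Pn * PC ^ p) := by
    rw [hu, c.psi_mul _ hxU _ (c.U.inv_mem (c.U.pow_mem hxU p)),
      c.psi_inv (c.U.pow_mem hxU p), c.psi_pow hxU, hψx, div_pow]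
    field_simp
  have hU0 : (1 : F) - c.psi u ≠ 0 := fun h =>
    hu1 (c.eq_one_of_psi huU (sub_eq_zero.mp h).symm)
  set π := (-(D / Pn) + c.psi u * (D / Pn ^ p)) / (1 - c.psi u) with hπ
  set π' := (-(D * c.psi g / Pn) + c.psi u * (D * c.psi g ^ p / Pn ^ p)) / (1 - c.psi u) with hπ'
  refine ⟨π, π', ?_, ?_, ?_⟩
  · have hXU : vC⁻¹ * vn ∈ c.U := c.U.mul_mem (c.U.inv_mem hvC) hvn
    have hxinv : (vC⁻¹ * vn) = x⁻¹ := by simp only [x]; group
    have hXp : (vC ^ p)⁻¹ * vn ^ p = (x ^ p)⁻¹ := by rw [hxpow]; group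
    rw [c.rot_eq huU, c.rot_eq huU, hπ, hπ', div_mul_cancel₀ _ hU0, div_mul_cancel₀ _ hU0]
    have hXinv : c.pt (-(D / Pn) + c.psi u * (D / Pn ^ p)) * u
        = (c.pt (D / PC) * (vC⁻¹ * vn))⁻¹ *
          (c.pt (D / PC ^ p) * ((vC ^ p)⁻¹ * vn ^ p)) := by
      rw [c.form_inv hXU, hxinv, inv_inv, c.psi_inv hxU, inv_inv, c.form_mul hxU, hXp, ← hu]
      congr 2
      rw [hψx, hψu]
      field_simp
    have hYinv : c.pt (-(D * c.psi g / Pn) + c.psi u * (D * c.psi g ^ p / Pn ^ p)) * u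
        = c.pt (-(D * c.psi g / Pn)) * (vn⁻¹ * vC) *
          (c.pt (-(D * c.psi g ^ p / Pn ^ p)) * ((vn ^ p)⁻¹ * vC ^ p))⁻¹ := by
      rw [← hxpow, c.form_inv (c.U.pow_mem hxU p), show vn⁻¹ * vC = x from rfl, c.form_mul hxU,
        ← hu, c.psi_pow hxU]
      congr 2
      rw [hψx, hψu, div_pow]
      field_simp
    rw [hXinv, hYinv]
    have h := e1.symm.trans e2
    calc _ = (c.pt (D / PC) * (vC⁻¹ * vn))⁻¹ *
            (c.pt (D / PC ^ p) * ((vC ^ p)⁻¹ * vn ^ p) * c.bel n (C * κn) *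
              (c.pt (-(D * c.psi g ^ p / Pn ^ p)) * ((vn ^ p)⁻¹ * vC ^ p))) *
            (c.pt (-(D * c.psi g ^ p / Pn ^ p)) * ((vn ^ p)⁻¹ * vC ^ p))⁻¹ := by group
      _ = _ := by rw [← h]; group
  · have h : π * (1 - c.psi u) = -(D / Pn) + c.psi u * (D / Pn ^ p) := by
      rw [hπ, div_mul_cancel₀ _ hU0]
    rw [hψu] at h
    field_simp at h
    linear_combination h
  · have h : π' * (1 - c.psi u) = -(D * c.psi g / Pn) + c.psi u * (D * c.psi g ^ p / Pn ^ p) := by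
      rw [hπ', div_mul_cancel₀ _ hU0]
    rw [hψu] at h
    field_simp at h
    linear_combination h

/-- Both centres lie in the prime field, and the ratio commutes with `t`. -/
lemma pair {n C κn κC : ℤ} {g Wn WC : G} (hg : g ∈ c.U) (hg1 : g ≠ 1) (hWn : Wn ∈ c.U)
    (hWC : WC ∈ c.U) (hn0 : (n : F) ≠ 0) (hC0 : (C : F) ≠ 0) (hκn : (κn : F) ≠ 0)
    (hne : ((n - C : ℤ) : F) ≠ 0)
    (hn : 1 - c.psi (c.shift n g) = (κn : F) * c.psi Wn)
    (hC : 1 - c.psi (c.shift C g) = (κC : F) * c.psi WC) :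
    let vn := c.shift (-n) Wn
    let vC := c.shift (-C) WC
    (vn⁻¹ * vC ≠ 1 ∧ c.t * (vn⁻¹ * vC) = vn⁻¹ * vC * c.t) ∧ ∃ e e' f f' : F,
      e ^ p = e ∧ e' ^ p = e' ∧ f ^ p = f ∧ f' ^ p = f' ∧
      e * c.psi vn + ((n - C : ℤ) : F) = f * c.psi vC ∧
      e' * c.psi vn + ((n - C : ℤ) : F) * c.psi g = f' * c.psi vC := by
  intro vn vC
  have := Fact.mk c.prime_p
  have := c.charP
  obtain ⟨hx1, hxp, π, π', hrot, hA, hB⟩ := c.centre hg hg1 hWn hWC hn0 hC0 hκn hne hn hC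
  have hg' : g ^ p ≠ 1 := fun h => hg1 (c.eq_one_of_rat hg (by
    have h1 : c.psi g ^ p = 1 := by rw [← c.psi_pow hg, h, c.psi_one]
    have h2 : (c.psi g - 1) ^ p = 0 := by rw [sub_pow_char, h1, one_pow, sub_self]
    rw [h1, sub_eq_zero.mp (pow_eq_zero_iff c.prime_p.ne_zero |>.mp h2)]))
  obtain ⟨-, -, σ, σ', hrot', hA', hB'⟩ := c.centre (c.U.pow_mem hg p) hg' (c.U.pow_mem hWn p)
    (c.U.pow_mem hWC p) hn0 hC0 hκn hne (c.scalar_pow hg hWn hn) (c.scalar_pow hg hWC hC)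
  simp only [c.shift_pow] at hrot' hA' hB'
  set D : F := ((n - C : ℤ) : F) with hD
  have hvn : vn ∈ c.U := c.shift_mem _ hWn
  have hvC : vC ∈ c.U := c.shift_mem _ hWC
  set x := vn⁻¹ * vC with hx
  have hxU : x ∈ c.U := c.U.mul_mem (c.U.inv_mem hvn) hvC
  have hcomm : Commute (vn⁻¹) vC := c.U_comm (c.U.inv_mem hvn) hvC
  have hxpow : (vn ^ p)⁻¹ * vC ^ p = x ^ p := by rw [hx, hcomm.mul_pow, inv_pow]
  change c.rot π (x * (x ^ p)⁻¹) * c.bel n (C * κn)
    = c.bel n (C * κn) * c.rot π' (x * (x ^ p)⁻¹) at hrot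
  change (π * c.psi vn + D) * c.psi vC ^ p = (π * c.psi vn ^ p + D) * c.psi vC at hA
  change (π' * c.psi vn + D * c.psi g) * c.psi vC ^ p
    = (π' * c.psi vn ^ p + D * c.psi g ^ p) * c.psi vC at hB
  change c.rot σ ((vn ^ p)⁻¹ * vC ^ p * (((vn ^ p)⁻¹ * vC ^ p) ^ p)⁻¹) * c.bel n (C * κn)
    = c.bel n (C * κn) * c.rot σ' ((vn ^ p)⁻¹ * vC ^ p * (((vn ^ p)⁻¹ * vC ^ p) ^ p)⁻¹) at hrot'
  rw [hxpow] at hrot'
  have hk : ((C * κn : ℤ) : F) ≠ 0 := by rw [Int.cast_mul]; exact mul_ne_zero hC0 hκn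
  set u := x * (x ^ p)⁻¹ with hu
  have huU : u ∈ c.U := c.U.mul_mem hxU (c.U.inv_mem (c.U.pow_mem hxU p))
  have hu1 : u ≠ 1 := fun h => hxp (mul_inv_eq_one.mp h).symm
  have hw1 : x ^ p * ((x ^ p) ^ p)⁻¹ ≠ 1 := fun h => hu1 (by
    have h1 : u ^ p = 1 := by
      have h0 : Commute x (x ^ p)⁻¹ := c.U_comm hxU (c.U.inv_mem (c.U.pow_mem hxU p))
      rw [hu, h0.mul_pow, inv_pow, h]
    refine c.eq_one_of_rat huU ?_
    have h2 : (c.psi u - 1) ^ p = 0 := by
      rw [sub_pow_char, ← c.psi_pow huU, h1, c.psi_one, one_pow, sub_self]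
    rw [← c.psi_pow huU, h1, c.psi_one,
      sub_eq_zero.mp (pow_eq_zero_iff c.prime_p.ne_zero |>.mp h2)])
  obtain ⟨hσ, hσ'⟩ := c.rot_unique hn0 hk huU hu1
    (c.U.mul_mem (c.U.pow_mem hxU p) (c.U.inv_mem (c.U.pow_mem (c.U.pow_mem hxU p) p))) hw1
    hrot hrot'
  subst hσ hσ'
  change (π * c.psi (vn ^ p) + D) * c.psi (vC ^ p) ^ p
    = (π * c.psi (vn ^ p) ^ p + D) * c.psi (vC ^ p) at hA'
  change (π' * c.psi (vn ^ p) + D * c.psi (g ^ p)) * c.psi (vC ^ p) ^ p
    = (π' * c.psi (vn ^ p) ^ p + D * c.psi (g ^ p) ^ p) * c.psi (vC ^ p) at hB'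
  rw [c.psi_pow hvn, c.psi_pow hvC] at hA' hB'
  rw [c.psi_pow hg] at hB'
  set Pn := c.psi vn with hPn
  set PC := c.psi vC with hPC
  have hPn0 : Pn ≠ 0 := c.psi_ne _ hvn
  have hPC0 : PC ≠ 0 := c.psi_ne _ hvC
  have hψx : c.psi x = PC / Pn := by
    rw [hx, c.psi_mul _ (c.U.inv_mem hvn) _ hvC, c.psi_inv hvn, inv_mul_eq_div]
  have hne2 : Pn ^ p * (PC ^ p) ^ p - (Pn ^ p) ^ p * PC ^ p ≠ 0 := by
    intro h
    refine hxp (c.psi_inj (c.U.pow_mem hxU p) hxU ?_)
    rw [← mul_pow, ← mul_pow, ← sub_pow_char, pow_eq_zero_iff c.prime_p.ne_zero] at h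
    rw [c.psi_pow hxU, hψx, div_pow, div_eq_div_iff (pow_ne_zero _ hPn0) hPn0]
    linear_combination h
  have hDp : D ^ p = D := c.rat_intCast _
  have hA2 := congrArg (fun z => z ^ p) hA
  have hB2 := congrArg (fun z => z ^ p) hB
  simp only [mul_pow, add_pow_char, hDp] at hA2 hB2
  have hπ : π ^ p = π := by
    have : (π ^ p - π) * (Pn ^ p * (PC ^ p) ^ p - (Pn ^ p) ^ p * PC ^ p) = 0 := by
      linear_combination hA2 - hA'
    exact sub_eq_zero.mp ((mul_eq_zero.mp this).resolve_right hne2)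
  have hπ' : π' ^ p = π' := by
    have : (π' ^ p - π') * (Pn ^ p * (PC ^ p) ^ p - (Pn ^ p) ^ p * PC ^ p) = 0 := by
      linear_combination hB2 - hB'
    exact sub_eq_zero.mp ((mul_eq_zero.mp this).resolve_right hne2)
  refine ⟨⟨hx1, ?_⟩, π, π', (π * Pn + D) / PC, (π' * Pn + D * c.psi g) / PC, hπ, hπ', ?_, ?_, ?_, ?_⟩
  · obtain ⟨i, hi⟩ := c.rat_int hπ
    obtain ⟨j, hj⟩ := c.rat_int hπ'
    have hut : c.t * u = u * c.t := by
      refine c.commute_t_of_commute (i := -i) (j := j) hn0 hk huU hu1 ?_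
      rw [c.s_zpow, c.s_zpow, Int.cast_neg, hi, hj, c.pt_neg]
      calc u * ((c.pt π)⁻¹ * c.bel n (C * κn) * c.pt π')
          = (c.pt π)⁻¹ * (c.rot π u * c.bel n (C * κn)) * c.pt π' := by simp only [rot]; group
        _ = _ := by rw [hrot]; simp only [rot]; group
    have h1 : Commute c.t (x ^ (p - 1)) := by
      have e : x ^ (p - 1) = u⁻¹ := by
        rw [hu, mul_inv_rev, inv_inv, eq_mul_inv_iff_mul_eq, ← pow_succ,
          Nat.sub_add_cancel c.prime_p.one_le]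
      rw [e]; exact Commute.inv_right hut
    have hord : orderOf x ∣ Nat.card c.U := by
      refine orderOf_dvd_of_pow_eq_one ?_
      have := congrArg Subtype.val (pow_card_eq_one' (x := (⟨x, hxU⟩ : c.U)))
      simpa only [SubgroupClass.coe_pow, OneMemClass.coe_one] using this
    obtain ⟨m, hm⟩ := exists_pow_eq_self_of_coprime
      ((c.cop_U.symm).coprime_dvd_right hord)
    have h2 := h1.pow_right m
    rw [hm] at h2
    exact h2.eq
  · rw [div_pow, add_pow_char, mul_pow, hπ, hDp, div_eq_div_iff (pow_ne_zero _ hPC0) hPC0]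
    linear_combination -hA
  · rw [div_pow, add_pow_char, mul_pow, mul_pow, hπ', hDp,
      div_eq_div_iff (pow_ne_zero _ hPC0) hPC0]
    linear_combination -hB
  · rw [div_mul_cancel₀ _ hPC0]
  · rw [div_mul_cancel₀ _ hPC0]

include c in
lemma cast_two_ne : ((2 : ℤ) : F) ≠ 0 := by
  intro h
  have h' : ((2 : ℕ) : F) = 0 := by exact_mod_cast h
  have := c.charP
  rw [CharP.cast_eq_zero_iff F p] at h'
  exact c.odd_p ((Nat.prime_dvd_prime_iff_eq c.prime_p Nat.prime_two).mp h')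

/-- Scalars whose multiplier part commutes with `t`. -/
def Fix (z : F) : Prop :=
  ∃ (a : ℤ) (W : G), W ∈ c.U ∧ (a : F) ≠ 0 ∧ z = (a : F) * c.psi W ∧ Commute c.t W

lemma fix_mul {z z' : F} (h : c.Fix z) (h' : c.Fix z') : c.Fix (z * z') := by
  obtain ⟨a, W, hW, ha, rfl, hc⟩ := h
  obtain ⟨b, V, hV, hb, rfl, hd⟩ := h'
  refine ⟨a * b, W * V, c.U.mul_mem hW hV, by rw [Int.cast_mul]; exact mul_ne_zero ha hb, ?_,
    hc.mul_right hd⟩
  rw [c.psi_mul W hW V hV, Int.cast_mul]; ring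

lemma fix_inv {z : F} (h : c.Fix z) : c.Fix z⁻¹ := by
  obtain ⟨a, W, hW, ha, rfl, hc⟩ := h
  have h1 : ((a : F)⁻¹) ^ p = (a : F)⁻¹ := by rw [inv_pow, c.rat_intCast]
  obtain ⟨b, hb⟩ := c.rat_int h1
  refine ⟨b, W⁻¹, c.U.inv_mem hW, by rw [hb]; exact inv_ne_zero ha, ?_, hc.inv_right⟩
  rw [c.psi_inv hW, hb, mul_inv]

include c in
/-- The configuration is contradictory. -/
theorem false_of : False := by
  classical
  have := Fact.mk c.prime_p
  have := c.charP
  have h1ne : ((1 : ℤ) : F) ≠ 0 := by simp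
  have h2ne := c.cast_two_ne
  have scal : ∀ (a : ℤ) (g : G), g ∈ c.U → g ≠ 1 →
      1 - c.psi (c.shift a g) ≠ 0 := by
    intro a g hg hg1 h
    refine hg1 (c.eq_one_of_shift_rat a hg ?_)
    rw [← sub_eq_zero.mp h, one_pow]
  choose! κ W hWU hκ hW using fun (a : ℤ) (g : G) (hg : g ∈ c.U) (hg1 : g ≠ 1) =>
    c.decomp (scal a g hg hg1)
  let v : ℤ → G → G := fun a g => c.shift (-a) (W a g)
  have hvU : ∀ a g, g ∈ c.U → g ≠ 1 → v a g ∈ c.U := fun a g hg hg1 =>
    c.shift_mem _ (hWU a g hg hg1)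
  have hpair : ∀ (n C : ℤ) g, g ∈ c.U → g ≠ 1 → (n : F) ≠ 0 → (C : F) ≠ 0 → (n : F) ≠ (C : F) →
      ((v n g)⁻¹ * v C g ≠ 1 ∧ c.t * ((v n g)⁻¹ * v C g) = (v n g)⁻¹ * v C g * c.t) ∧
      ∃ e e' f f' : F, e ^ p = e ∧ e' ^ p = e' ∧ f ^ p = f ∧ f' ^ p = f' ∧
        e * c.psi (v n g) + ((n - C : ℤ) : F) = f * c.psi (v C g) ∧
        e' * c.psi (v n g) + ((n - C : ℤ) : F) * c.psi g = f' * c.psi (v C g) := by
    intro n C g hg hg1 hn hC hne
    exact c.pair hg hg1 (hWU n g hg hg1) (hWU C g hg hg1) hn hC (hκ n g hg hg1)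
      (by rw [Int.cast_sub]; exact sub_ne_zero.mpr hne) (hW n g hg hg1) (hW C g hg hg1)
  have vrat : ∀ (n : ℤ) g, g ∈ c.U → g ≠ 1 → ¬ c.psi (v n g) ^ p = c.psi (v n g) := by
    intro n g hg hg1 h
    have h1 : W n g = 1 := c.eq_one_of_shift_rat (-n) (hWU n g hg hg1) h
    have h2 := hW n g hg hg1
    rw [h1, c.psi_one, mul_one] at h2
    refine hg1 (c.eq_one_of_shift_rat n hg ?_)
    rw [show c.psi (c.shift n g) = ((1 - κ n g : ℤ) : F) from by push_cast; linear_combination -h2,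
      c.rat_intCast]
  have vg : ∀ (n : ℤ) g, g ∈ c.U → g ≠ 1 → ∀ r : F, r ^ p = r →
      c.psi (v n g) ≠ r * c.psi g := by
    intro n g hg hg1 r hr h
    obtain ⟨m, rfl⟩ := c.rat_int hr
    obtain ⟨h1, -⟩ := c.scalar_inj (a := 1) (hvU n g hg hg1) hg h1ne (b := m)
      (by rw [Int.cast_one, one_mul]; exact h)
    have h2 : W n g = c.shift n g := by
      conv_rhs => rw [← h1]
      simp only [v]
      rw [c.shift_shift, add_neg_cancel, c.shift_zero]
    have h3 := hW n g hg hg1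
    rw [h2] at h3
    have h4 : ((1 + κ n g : ℤ) : F) * c.psi (c.shift n g) = 1 := by
      push_cast; linear_combination -h3
    refine hg1 (c.eq_one_of_shift_rat n hg ?_)
    have hne0 : ((1 + κ n g : ℤ) : F) ≠ 0 := left_ne_zero_of_mul_eq_one h4
    rw [eq_inv_of_mul_eq_one_right h4, inv_pow, c.rat_intCast]
  have hline : ∀ (n : ℤ) g, g ∈ c.U → g ≠ 1 → (n : F) ≠ 0 →
      ∃ μ : F, μ ^ p = μ ∧ μ ≠ 0 ∧
        ∃ r : F, r ^ p = r ∧ r ≠ 0 ∧ 1 + μ * c.psi g = r * c.psi (v n g) := by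
    intro n g hg hg1 hn
    obtain ⟨C, hC, hnC⟩ : ∃ C : ℤ, (C : F) ≠ 0 ∧ (n : F) ≠ (C : F) := by
      refine ⟨2 * n, by rw [Int.cast_mul]; exact mul_ne_zero h2ne hn, fun h => hn ?_⟩
      push_cast at h
      linear_combination -h
    obtain ⟨-, e, e', f, f', he, he', hf, hf', h1, h2⟩ := hpair n C g hg hg1 hn hC hnC
    set D : F := ((n - C : ℤ) : F) with hD
    have hD0 : D ≠ 0 := by rw [hD, Int.cast_sub]; exact sub_ne_zero.mpr hnC
    have hDp : D ^ p = D := c.rat_intCast _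
    set V := c.psi (v n g) with hV
    have hkey : (f' * e - f * e') * V = f * D * c.psi g - f' * D := by
      linear_combination f' * h1 - f * h2
    have hf0 : f ≠ 0 := by
      intro h0
      rw [h0, zero_mul] at h1
      by_cases he0 : e = 0
      · rw [he0, zero_mul, zero_add] at h1; exact hD0 h1
      · refine vrat n g hg hg1 ?_
        rw [← hV, show V = -D / e from by rw [eq_div_iff he0]; linear_combination h1, div_pow,
          neg_pow, hDp, he,
          (c.prime_p.eq_two_or_odd'.resolve_left c.odd_p).neg_one_pow, neg_one_mul]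
    have hcoef : f' * e - f * e' ≠ 0 := by
      intro h0
      rw [h0, zero_mul] at hkey
      have h3 : c.psi g = f' / f := by
        rw [eq_div_iff hf0]
        exact mul_right_cancel₀ hD0 (by linear_combination -hkey)
      exact hg1 (c.eq_one_of_rat hg (by rw [h3, div_pow, hf, hf']))
    have hf'0 : f' ≠ 0 := by
      intro h0
      refine vg n g hg hg1 (f * D / (f' * e - f * e')) ?_ ?_
      · rw [div_pow, mul_pow, sub_pow_char, mul_pow, mul_pow, hf, hDp, hf', he, he']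
      · rw [← hV, div_mul_eq_mul_div, eq_div_iff hcoef, h0]
        rw [h0] at hkey
        linear_combination hkey
    refine ⟨-f / f', ?_, div_ne_zero (neg_ne_zero.mpr hf0) hf'0,
      -(f' * e - f * e') / (f' * D), ?_,
      div_ne_zero (neg_ne_zero.mpr hcoef) (mul_ne_zero hf'0 hD0), ?_⟩
    · rw [div_pow, neg_pow, hf, hf',
        (c.prime_p.eq_two_or_odd'.resolve_left c.odd_p).neg_one_pow, neg_one_mul]
    · rw [div_pow, neg_pow, sub_pow_char, mul_pow, mul_pow, mul_pow, hf, hf', he, he', hDp,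
        (c.prime_p.eq_two_or_odd'.resolve_left c.odd_p).neg_one_pow, neg_one_mul]
    · field_simp
      linear_combination hkey
  have hfix : ∀ g, g ∈ c.U → g ≠ 1 → ∀ a b : ℤ, (a : F) ≠ 0 → (b : F) ≠ 0 →
      c.Fix ((1 + (a : F) * c.psi g) / (1 + (b : F) * c.psi g)) := by
    intro g hg hg1
    let R := {x : F // x ^ p = x ∧ x ≠ 0}
    have hidx : ∀ x : R, ∃ a : ℤ, (a : F) = x.1 := fun x => c.rat_int x.2.1
    choose idx hidx using hidx
    have hidx0 : ∀ x : R, ((idx x : ℤ) : F) ≠ 0 := fun x => by rw [hidx]; exact x.2.2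
    choose μ hμ hμ0 r hr hr0 hμr using fun x : R => hline (idx x) g hg hg1 (hidx0 x)
    let M : R → R := fun x => ⟨μ x, hμ x, hμ0 x⟩
    have hM : Function.Injective M := by
      intro x y hxy
      by_contra hne
      have hne' : ((idx x : ℤ) : F) ≠ ((idx y : ℤ) : F) := fun h =>
        hne (Subtype.ext (by rw [← hidx x, ← hidx y, h]))
      obtain ⟨⟨hx1, -⟩, -⟩ := hpair (idx x) (idx y) g hg hg1 (hidx0 x) (hidx0 y) hne'
      obtain ⟨a, ha⟩ := c.rat_int (hr x)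
      obtain ⟨b, hb⟩ := c.rat_int (hr y)
      have e : (a : F) * c.psi (v (idx x) g) = (b : F) * c.psi (v (idx y) g) := by
        rw [ha, hb, ← hμr, ← hμr, show μ x = μ y from congrArg Subtype.val hxy]
      have := (c.scalar_inj (hvU _ g hg hg1) (hvU _ g hg hg1) (by rw [ha]; exact hr0 x) e).1
      exact hx1 (by rw [this, inv_mul_cancel])
    have hMs : Function.Surjective M := Finite.injective_iff_surjective.mp hM
    intro a b ha hb
    obtain ⟨x, hx⟩ := hMs ⟨(a : F), c.rat_intCast a, ha⟩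
    obtain ⟨y, hy⟩ := hMs ⟨(b : F), c.rat_intCast b, hb⟩
    have hx' : μ x = (a : F) := congrArg Subtype.val hx
    have hy' : μ y = (b : F) := congrArg Subtype.val hy
    rw [← hx', ← hy', hμr, hμr]
    obtain ⟨i, hi⟩ := c.rat_int (show (r x / r y) ^ p = r x / r y by rw [div_pow, hr, hr])
    refine ⟨i, v (idx x) g * (v (idx y) g)⁻¹,
      c.U.mul_mem (hvU _ g hg hg1) (c.U.inv_mem (hvU _ g hg hg1)),
      by rw [hi]; exact div_ne_zero (hr0 x) (hr0 y), ?_, ?_⟩
    · rw [c.psi_mul _ (hvU _ g hg hg1) _ (c.U.inv_mem (hvU _ g hg hg1)),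
        c.psi_inv (hvU _ g hg hg1), hi]
      have := c.psi_ne _ (hvU (idx y) g hg hg1)
      have := hr0 y
      field_simp
    · by_cases hxy : x = y
      · rw [hxy, mul_inv_cancel]; exact Commute.one_right _
      · have hne' : ((idx y : ℤ) : F) ≠ ((idx x : ℤ) : F) := fun h =>
          hxy (Subtype.ext (by rw [← hidx x, ← hidx y, h]))
        rw [c.U_comm (hvU _ g hg hg1) (c.U.inv_mem (hvU _ g hg hg1))]
        exact (hpair (idx y) (idx x) g hg hg1 (hidx0 y) (hidx0 x) hne').1.2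
  have hir : ∀ w : F, ¬ w ^ p = w → ∀ a b : ℤ, (a : F) ≠ 0 → (b : F) ≠ 0 →
      c.Fix (((a : F) + w) / ((b : F) + w)) := by
    intro w hw a b ha hb
    have hw0 : w ≠ 0 := fun h => hw (by rw [h, zero_pow c.prime_p.ne_zero])
    obtain ⟨k, g, hg, hk, hwk⟩ := c.decomp hw0
    have hg1 : g ≠ 1 := fun h => hw (by rw [hwk, h, c.psi_one, mul_one, c.rat_intCast])
    obtain ⟨a', ha'⟩ := c.rat_int (show ((k : F) / a) ^ p = (k : F) / a by
      rw [div_pow, c.rat_intCast, c.rat_intCast])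
    obtain ⟨b', hb'⟩ := c.rat_int (show ((k : F) / b) ^ p = (k : F) / b by
      rw [div_pow, c.rat_intCast, c.rat_intCast])
    obtain ⟨d, hd⟩ := c.rat_int (show ((a : F) / b) ^ p = (a : F) / b by
      rw [div_pow, c.rat_intCast, c.rat_intCast])
    have h := c.fix_mul
      (⟨d, 1, c.U.one_mem, by rw [hd]; exact div_ne_zero ha hb,
        by rw [c.psi_one, mul_one], Commute.one_right _⟩ : c.Fix ((d : F)))
      (hfix g hg hg1 a' b' (by rw [ha']; exact div_ne_zero hk ha)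
        (by rw [hb']; exact div_ne_zero hk hb))
    convert h using 1
    rw [hd, ha', hb', hwk]
    have e1 : (a : F) + (k : F) * c.psi g = (a : F) * (1 + (k : F) / a * c.psi g) := by
      field_simp
    have e2 : (b : F) + (k : F) * c.psi g = (b : F) * (1 + (k : F) / b * c.psi g) := by
      field_simp
    rw [e1, e2, mul_div_mul_comm]
  have hall : ∀ z : F, z ≠ 0 → c.Fix z := by
    intro z hz
    by_cases hzr : z ^ p = z
    · obtain ⟨a, ha⟩ := c.rat_int hzr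
      exact ⟨a, 1, c.U.one_mem, by rw [ha]; exact hz, by rw [c.psi_one, mul_one, ha],
        Commute.one_right _⟩
    · have key : ∀ y : F, ¬ y ^ p = y → c.Fix ((y + 1) / y) := by
        intro y hy
        have hy1 : ¬ (y - 1) ^ p = y - 1 := by
          rw [sub_pow_char, one_pow]; intro h; exact hy (sub_left_inj.mp h)
        have := hir (y - 1) hy1 2 1 h2ne h1ne
        convert this using 2 <;> push_cast <;> ring
      have hz' : ¬ (z⁻¹) ^ p = z⁻¹ := by
        rw [inv_pow, inv_inj]; exact hzr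
      have h := c.fix_mul (key z⁻¹ hz') (c.fix_inv (key z hzr))
      convert h using 1
      have hz1 : z + 1 ≠ 0 := fun h0 => hzr (by
        rw [eq_neg_of_add_eq_zero_left h0,
          (c.prime_p.eq_two_or_odd'.resolve_left c.odd_p).neg_one_pow])
      field_simp
      ring
  obtain ⟨g, hg, hg1⟩ := c.exists_ne_one
  have hT : ∀ w ∈ c.U, ∀ a : ℤ, c.shift a w = w := by
    intro w hw a
    obtain ⟨b, W', hW', hb, hbw, hc⟩ := hall _ (c.psi_ne w hw)
    obtain ⟨h1, -⟩ := c.scalar_inj (a := b) (b := 1) hW' hw hb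
      (by rw [Int.cast_one, one_mul, hbw])
    rw [← h1, shift, zpow_neg, (hc.zpow_left a).eq, mul_inv_cancel_right]
  have h3 : W 1 g = W 2 g := by
    refine (c.scalar_inj (hWU 1 g hg hg1) (hWU 2 g hg hg1) (hκ 1 g hg hg1) (b := κ 2 g) ?_).1
    rw [← hW 1 g hg hg1, ← hW 2 g hg hg1, hT g hg, hT g hg]
  refine (hpair 1 2 g hg hg1 h1ne h2ne ?_).1.1 ?_
  · push_cast
    intro h
    exact one_ne_zero (show (1 : F) = 0 by linear_combination -h)
  · simp only [v]
    rw [hT _ (hWU 1 g hg hg1), hT _ (hWU 2 g hg hg1), h3, inv_mul_cancel]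

end Cfg

end Cfsg.Agent.AppC
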