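import Cfsg.Prelude.Def_ClassificationStages
import Cfsg.Agent.Lib.Lie.AbelianField
import Cfsg.Agent.Lib.Perm.GenTuples
import Cfsg.Agent.Lib.OddLocal.AppC.Final

/-!
# The two-prime parabolic configuration

The Frobenius group `P A` of the configuration is a group of maps `x ↦ u x + b` of a field, so the
configuration is one of those shown contradictory.
-/

set_option autoImplicit false

namespace Cfsg.Agent.AppC

open Subgroup
open scoped Pointwise

/-- An additive subgroup stable under a fixed-point-free group of order `(p^q-1)/(p-1)` is trivial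
or everything. -/
theorem irreducible_of_fpf {V H : Type*} [AddCommGroup V] [Finite V] [Group H] [Finite H]
    (ρ : H →* AddMonoid.End V) {p q : ℕ} (hp : p.Prime) (hq : q.Prime)
    (hV : Nat.card V = p ^ q) (hH : Nat.card H * (p - 1) = p ^ q - 1)
    (hcop : (Nat.card H).Coprime (p - 1)) (hfree : ∀ h v, v ≠ 0 → ρ h v = v → h = 1)
    (W : AddSubgroup V) (hW : ∀ h : H, ∀ v ∈ W, ρ h v ∈ W) : W = ⊥ ∨ W = ⊤ := by
  classical
  have := Fact.mk hp
  obtain ⟨d, hdq, hd⟩ : ∃ d ≤ q, Nat.card W = p ^ d :=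
    (Nat.dvd_prime_pow hp).mp (hV ▸ W.card_addSubgroup_dvd_card)
  rcases Nat.eq_or_lt_of_le hdq with rfl | hlt
  · exact Or.inr (AddSubgroup.eq_top_of_card_eq W (by rw [hd, hV]))
  rcases Nat.eq_zero_or_pos d with rfl | hd0
  · exact Or.inl (AddSubgroup.eq_bot_of_card_eq W (by simpa using hd))
  exfalso
  let X := {v : W // v ≠ 0}
  have hne : ∀ (h : H) (v : X), (⟨ρ h v.1.1, hW h _ v.1.2⟩ : W) ≠ 0 := by
    intro h v e
    refine v.2 (Subtype.ext ?_)
    have e' : ρ h v.1.1 = 0 := congrArg Subtype.val e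
    have : ρ (h⁻¹ * h) v.1.1 = 0 := by
      rw [map_mul]; show ρ h⁻¹ (ρ h v.1.1) = 0; rw [e', map_zero]
    rw [inv_mul_cancel, map_one] at this
    exact this
  let _ : MulAction H X :=
    { smul := fun h v => ⟨_, hne h v⟩
      one_smul := fun v => Subtype.ext (Subtype.ext (by
        show ρ 1 v.1.1 = v.1.1; rw [map_one]; rfl))
      mul_smul := fun g h v => Subtype.ext (Subtype.ext (by
        show ρ (g * h) v.1.1 = ρ g (ρ h v.1.1); rw [map_mul]; rfl)) }
  have hdvd := Cfsg.Agent.Perm.card_dvd_of_free (A := H) (X := X) (fun h v e =>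
    hfree h v.1.1 (fun e0 => v.2 (Subtype.ext e0))
      (congrArg (fun z : X => z.1.1) e))
  have hX : Nat.card X = p ^ d - 1 := by
    have : Fintype W := Fintype.ofFinite _
    rw [Nat.card_eq_fintype_card, Fintype.card_subtype_compl, Fintype.card_subtype_eq,
      ← Nat.card_eq_fintype_card, hd]
  rw [hX] at hdvd
  have h2 : Nat.card H ∣ p ^ q - 1 := ⟨_, hH.symm⟩
  have h3 := Nat.dvd_gcd hdvd h2
  rw [Nat.pow_sub_one_gcd_pow_sub_one,
    show Nat.gcd d q = 1 from Nat.coprime_comm.mp
      (hq.coprime_iff_not_dvd.mpr (fun h => absurd (Nat.le_of_dvd hd0 h) (by omega))),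
    pow_one] at h3
  have h4 : Nat.card H = 1 := Nat.eq_one_of_dvd_coprimes hcop dvd_rfl h3
  rw [h4, one_mul] at hH
  have h5 : p ^ 1 < p ^ q := Nat.pow_lt_pow_right hp.one_lt hq.one_lt
  rw [pow_one] at h5
  have := hp.two_le
  omega

/-- No finite group carries the two-prime parabolic configuration. -/
theorem not_parabolic {G : Type*} [Group G] [Finite G] (p q : ℕ) :
    ¬ Cfsg.IsParabolicType p q G := by
  rintro ⟨hp, hq, hp2, -, hqp, hcop, H, A, P, hAH, hPH, hsup, hfro, hker, hel, hPcard, hcyc, hAcard,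
    P₀, hP₀P, hP₀card, Q, hQc, hQq, hQn, y, hy, hyA⟩
  classical
  have := Fact.mk hp
  have := Fact.mk hq
  have hK : ∀ x : H, (x : G) ∈ P ↔ x ∈ Cfsg.frobeniusKernel (A.subgroupOf H) := by
    intro x; rw [hker]; exact Iff.rfl
  have hconj : ∀ g ∈ H, ∀ x ∈ P, g * x * g⁻¹ ∈ P := by
    intro g hg x hx
    refine (hK ⟨g * x * g⁻¹, H.mul_mem (H.mul_mem hg (hPH hx)) (H.inv_mem hg)⟩).mpr ?_
    rcases (hK ⟨x, hPH hx⟩).mp hx with h1 | h1
    · exact Or.inl (Subtype.ext (by
        show g * x * g⁻¹ = 1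
        rw [show x = 1 from congrArg Subtype.val h1]; group))
    · refine Or.inr fun k hk => h1 ((⟨g, hg⟩ : H)⁻¹ * k) ?_
      rw [Subgroup.mem_pointwise_smul_iff_inv_smul_mem, ← map_inv, MulAut.smul_def,
        MulAut.conj_apply] at hk ⊢
      convert hk using 1
      refine Subtype.ext ?_
      simp only [Subgroup.coe_mul, Subgroup.coe_inv, mul_inv_rev, inv_inv]
      group
  have hfpf : ∀ a ∈ A, a ≠ 1 → ∀ x ∈ P, a * x = x * a → x = 1 := by
    intro a ha ha1 x hx hcomm
    by_contra hx1
    rcases (hK ⟨x, hPH hx⟩).mp hx with h1 | h1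
    · exact hx1 (congrArg Subtype.val h1)
    · have hxA : (⟨x, hPH hx⟩ : H) ∉ A.subgroupOf H := by
        have := h1 1
        simpa using this
      have h2 := hfro.2.2 _ hxA
      have h3 : (⟨a, hAH ha⟩ : H) ∈ A.subgroupOf H ⊓ (MulAut.conj (⟨x, hPH hx⟩ : H) • A.subgroupOf H) := by
        refine Subgroup.mem_inf.mpr ⟨ha, ?_⟩
        rw [Subgroup.mem_pointwise_smul_iff_inv_smul_mem, ← map_inv, MulAut.smul_def,
          MulAut.conj_apply, inv_inv]
        show x⁻¹ * a * x ∈ A
        rw [mul_assoc, hcomm, inv_mul_cancel_left]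
        exact ha
      rw [h2, Subgroup.mem_bot] at h3
      exact ha1 (congrArg Subtype.val h3)
  have hPc : IsMulCommutative P := hel.1
  let instP : CommGroup P := { (inferInstance : Group P) with mul_comm := mul_comm' }
  let ρ : A →* AddMonoid.End (Additive P) :=
    { toFun := fun a =>
        { toFun := fun z => Additive.ofMul ⟨a.1 * (Additive.toMul z).1 * a.1⁻¹,
            hconj a.1 (hAH a.2) _ (Additive.toMul z).2⟩
          map_zero' := Additive.toMul.injective (Subtype.ext (by simp))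
          map_add' := fun x z => Additive.toMul.injective (Subtype.ext (by
            show a.1 * ((Additive.toMul x).1 * (Additive.toMul z).1) * a.1⁻¹ = _
            simp [mul_assoc])) }
      map_one' := AddMonoidHom.ext fun z => Additive.toMul.injective (Subtype.ext (by
        show (1 : G) * (Additive.toMul z).1 * (1 : G)⁻¹ = (Additive.toMul z).1
        simp))
      map_mul' := fun a b => AddMonoidHom.ext fun z => Additive.toMul.injective (Subtype.ext (by
        show (a.1 * b.1) * (Additive.toMul z).1 * (a.1 * b.1)⁻¹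
          = a.1 * (b.1 * (Additive.toMul z).1 * b.1⁻¹) * a.1⁻¹
        group)) }
  have hρc : ∀ g h : A, ρ g * ρ h = ρ h * ρ g := fun g h => by
    rw [← map_mul, ← map_mul]
    have := hcyc.isMulCommutative
    rw [mul_comm']
  have hfree : ∀ (h : A) (v : Additive P), v ≠ 0 → ρ h v = v → h = 1 := by
    intro h v hv e
    by_contra h1
    refine hv (Additive.toMul.injective (Subtype.ext ?_))
    have e' : h.1 * (Additive.toMul v).1 * h.1⁻¹ = (Additive.toMul v).1 :=
      congrArg (fun z => (Additive.toMul z).1) e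
    exact hfpf h.1 h.2 (fun e1 => h1 (Subtype.ext e1)) _ (Additive.toMul v).2
      (mul_inv_eq_iff_eq_mul.mp e')
  have hp1 : 1 ≤ p - 1 := by have := hp.two_le; omega
  have hAc : Nat.card A * (p - 1) = p ^ q - 1 := by
    rw [hAcard, Nat.div_mul_cancel (Nat.sub_one_dvd_pow_sub_one p q)]
  have hAcop : (Nat.card A).Coprime (p - 1) := by rw [hAcard]; exact hcop
  have hVc : Nat.card (Additive P) = p ^ q := hPcard
  have : Nontrivial (Additive P) :=
    Finite.one_lt_card_iff_nontrivial.mp (hVc ▸ Nat.one_lt_pow hq.ne_zero hp.one_lt)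
  obtain ⟨F, _, _, e, μ, he⟩ := Cfsg.Agent.Lie.AbelianField.exists_field ρ hρc
    (fun W hW => irreducible_of_fpf ρ hp hq hVc hAc hAcop hfree W hW)
  obtain ⟨s₀, hs₀⟩ : ∃ s₀ : P₀, s₀ ≠ 1 := by
    have : Nontrivial P₀ := Finite.one_lt_card_iff_nontrivial.mp (hP₀card ▸ hp.one_lt)
    exact exists_ne 1
  set v₁ : Additive P := Additive.ofMul ⟨s₀.1, hP₀P s₀.2⟩ with hv₁
  have hc₀ : e v₁ ≠ 0 := by
    intro h
    rw [map_eq_zero_iff e e.injective] at h
    exact hs₀ (Subtype.ext (congrArg (fun z => ((Additive.toMul z : P) : G)) h))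
  let f : G → F := fun g => if h : g ∈ P then e (Additive.ofMul ⟨g, h⟩) / e v₁ else 0
  let ψ : G → F := fun g => if h : g ∈ A then μ ⟨g, h⟩ else 0
  have hf : ∀ (g : G) (h : g ∈ P), f g = e (Additive.ofMul ⟨g, h⟩) / e v₁ := fun g h => dif_pos h
  have hψ : ∀ (g : G) (h : g ∈ A), ψ g = μ ⟨g, h⟩ := fun g h => dif_pos h
  have hμ1 : ∀ a : A, μ a = 1 → a = 1 := by
    intro a ha
    refine hfree a v₁ (fun h => hc₀ (by rw [h, map_zero])) (e.injective ?_)
    rw [he, ha, one_mul]
  have hμ0 : ∀ a : A, μ a ≠ 0 := fun a => by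
    intro h
    have := map_mul μ a a⁻¹
    rw [mul_inv_cancel, map_one, h, zero_mul] at this
    exact one_ne_zero this
  have hs1 : ∀ x ∈ P, f x = 1 → x = s₀.1 := by
    intro x hx h
    rw [hf x hx, div_eq_one_iff_eq hc₀] at h
    exact congrArg (fun z => ((Additive.toMul z : P) : G)) (e.injective h)
  refine Cfg.false_of
    ({ P := P, U := A, Q := Q, f := f, psi := ψ, y := y
       prime_p := hp, prime_q := hq, odd_p := hp2
       card_F := by rw [← hVc, Nat.card_congr e.toEquiv, Nat.card_eq_fintype_card]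
       bij := by
         refine ⟨fun _ _ => trivial, fun a ha b hb h => ?_, fun z _ => ?_⟩
         · rw [hf a ha, hf b hb, div_left_inj' hc₀] at h
           exact congrArg (fun z => ((Additive.toMul z : P) : G)) (e.injective h)
         · have hm : (Additive.toMul (e.symm (z * e v₁)) : P).1 ∈ P :=
             (Additive.toMul (e.symm (z * e v₁)) : P).2
           refine ⟨_, hm, ?_⟩
           rw [hf _ hm]
           simp [hc₀]
       f_mul := fun x hx z hz => by
         rw [hf _ (P.mul_mem hx hz), hf x hx, hf z hz, ← add_div, ← map_add]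
         rfl
       psi_ne := fun u hu => by rw [hψ u hu]; exact hμ0 _
       conj_mem := fun u hu x hx => hconj u (hAH hu) x hx
       f_conj := fun u hu x hx => by
         rw [hf _ (hconj u (hAH hu) x hx), hf x hx, hψ u hu, ← mul_div_assoc, ← he]
         rfl
       psi_mul := fun u hu v hv => by
         rw [hψ _ (A.mul_mem hu hv), hψ u hu, hψ v hv, ← map_mul]
         rfl
       psi_inj := fun u hu v hv h => by
         rw [hψ u hu, hψ v hv] at h
         have h1 : μ (⟨u, hu⟩ * ⟨v, hv⟩⁻¹) = 1 := by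
           rw [map_mul, h, ← map_mul, mul_inv_cancel, map_one]
         exact congrArg Subtype.val (mul_inv_eq_one.mp (hμ1 _ h1))
       card_U := hAc, cop_U := hAcop, comm_Q := hQc
       cop_Q := by
         obtain ⟨n, hn⟩ := IsPGroup.iff_card.mp hQq
         rw [hn]
         refine Nat.Coprime.pow_left _ ((Nat.coprime_primes hq hp).mpr ?_)
         omega
       y_mem := hy
       s_norm := fun x hx h => by
         rw [hs1 x hx h, Subgroup.mem_normalizer_iff]
         intro z
         refine ⟨fun hz => hQn _ s₀.2 z hz, fun hz => ?_⟩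
         have := hQn _ (P₀.inv_mem s₀.2) _ hz
         simpa [mul_assoc] using this
       t_norm := fun x hx h => by
         refine hyA ⟨x, ?_, rfl⟩
         rw [hs1 x hx h]; exact s₀.2 } : Cfg G F p q)

end Cfsg.Agent.AppC
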