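import Mathlib

/-!
# The final configuration of the odd order analysis: set up

`P` is the additive group of a finite field, `U` a group of multipliers meeting the prime field
trivially, `Q` an abelian group of order prime to `p` normalised by the element `s` of `P` with
coordinate `1`, and `y ∈ Q` is such that `t = y s y⁻¹` normalises `U`.
-/

set_option autoImplicit false

namespace Cfsg.Agent.AppC

open Subgroup

/-- The configuration. -/
structure Cfg (G F : Type*) [Group G] [Field F] [Fintype F] (p q : ℕ) where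
  /-- The field subgroup. -/
  P : Subgroup G
  /-- The multipliers. -/
  U : Subgroup G
  /-- The abelian `p'`-group. -/
  Q : Subgroup G
  /-- Coordinates on `P`. -/
  f : G → F
  /-- The scalar of an element of `U`. -/
  psi : G → F
  /-- The conjugating element. -/
  y : G
  prime_p : p.Prime
  prime_q : q.Prime
  odd_p : p ≠ 2
  card_F : Fintype.card F = p ^ q
  bij : Set.BijOn f (P : Set G) Set.univ
  f_mul : ∀ x ∈ P, ∀ z ∈ P, f (x * z) = f x + f z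
  psi_ne : ∀ u ∈ U, psi u ≠ 0
  conj_mem : ∀ u ∈ U, ∀ x ∈ P, u * x * u⁻¹ ∈ P
  f_conj : ∀ u ∈ U, ∀ x ∈ P, f (u * x * u⁻¹) = psi u * f x
  psi_mul : ∀ u ∈ U, ∀ v ∈ U, psi (u * v) = psi u * psi v
  psi_inj : Set.InjOn psi (U : Set G)
  card_U : Nat.card U * (p - 1) = p ^ q - 1
  cop_U : (Nat.card U).Coprime (p - 1)
  comm_Q : IsMulCommutative Q
  cop_Q : (Nat.card Q).Coprime p
  y_mem : y ∈ Q
  s_norm : ∀ x ∈ P, f x = 1 → x ∈ normalizer (Q : Set G)
  t_norm : ∀ x ∈ P, f x = 1 → y * x * y⁻¹ ∈ normalizer (U : Set G)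

variable {G F : Type*} [Group G] [Field F] [Fintype F] {p q : ℕ} (c : Cfg G F p q)

namespace Cfg

/-- The element of `P` with given coordinate. -/
noncomputable def pt (x : F) : G := Function.invFunOn c.f (c.P : Set G) x

lemma pt_mem (x : F) : c.pt x ∈ c.P :=
  Function.invFunOn_mem (c.bij.surjOn (Set.mem_univ x))

lemma f_pt (x : F) : c.f (c.pt x) = x :=
  Function.invFunOn_eq (c.bij.surjOn (Set.mem_univ x))

lemma pt_f {g : G} (hg : g ∈ c.P) : c.pt (c.f g) = g :=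
  c.bij.injOn (c.pt_mem _) hg (c.f_pt _)

lemma pt_inj {x z : F} (h : c.pt x = c.pt z) : x = z := by
  rw [← c.f_pt x, h, c.f_pt]

lemma pt_add (x z : F) : c.pt (x + z) = c.pt x * c.pt z := by
  refine c.bij.injOn (c.pt_mem _) (c.P.mul_mem (c.pt_mem _) (c.pt_mem _)) ?_
  rw [c.f_pt, c.f_mul _ (c.pt_mem _) _ (c.pt_mem _), c.f_pt, c.f_pt]

lemma pt_zero : c.pt 0 = 1 := by
  have h := c.pt_add 0 0
  rw [add_zero] at h
  simpa using h

lemma pt_neg (x : F) : c.pt (-x) = (c.pt x)⁻¹ := by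
  refine eq_inv_of_mul_eq_one_left ?_
  rw [← c.pt_add, neg_add_cancel, c.pt_zero]

lemma pt_comm (x z : F) : c.pt x * c.pt z = c.pt z * c.pt x := by
  rw [← c.pt_add, ← c.pt_add, add_comm]

/-- `pt` as an additive map. -/
noncomputable def ptHom : F →+ Additive G where
  toFun x := Additive.ofMul (c.pt x)
  map_zero' := by rw [c.pt_zero]; rfl
  map_add' x z := by rw [c.pt_add]; rfl

lemma pt_zpow (x : F) (a : ℤ) : c.pt x ^ a = c.pt ((a : F) * x) := by
  have h := map_zsmul c.ptHom a x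
  have h' : c.pt (a • x) = c.pt x ^ a := h
  rw [← h', zsmul_eq_mul]

lemma conj_pt {u : G} (hu : u ∈ c.U) (x : F) : u * c.pt x * u⁻¹ = c.pt (c.psi u * x) := by
  refine c.bij.injOn (c.conj_mem u hu _ (c.pt_mem _)) (c.pt_mem _) ?_
  rw [c.f_conj u hu _ (c.pt_mem _), c.f_pt, c.f_pt]

lemma psi_one : c.psi 1 = 1 := by
  have h := c.psi_mul 1 c.U.one_mem 1 c.U.one_mem
  rw [mul_one] at h
  exact mul_left_cancel₀ (c.psi_ne 1 c.U.one_mem) (by rw [mul_one]; exact h.symm)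

lemma psi_inv {u : G} (hu : u ∈ c.U) : c.psi u⁻¹ = (c.psi u)⁻¹ := by
  refine eq_inv_of_mul_eq_one_left ?_
  rw [← c.psi_mul _ (c.U.inv_mem hu) _ hu, inv_mul_cancel, c.psi_one]

lemma psi_pow {u : G} (hu : u ∈ c.U) (m : ℕ) : c.psi (u ^ m) = c.psi u ^ m := by
  induction m with
  | zero => simpa using c.psi_one
  | succ m ih => rw [pow_succ, c.psi_mul _ (c.U.pow_mem hu m) _ hu, ih, pow_succ]

lemma U_comm {u v : G} (hu : u ∈ c.U) (hv : v ∈ c.U) : u * v = v * u :=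
  c.psi_inj (c.U.mul_mem hu hv) (c.U.mul_mem hv hu)
    (by rw [c.psi_mul u hu v hv, c.psi_mul v hv u hu, mul_comm])

lemma eq_one_of_psi {u : G} (hu : u ∈ c.U) (h : c.psi u = 1) : u = 1 :=
  c.psi_inj hu c.U.one_mem (by rw [h, c.psi_one])

lemma U_inf_P {u : G} (hu : u ∈ c.U) (h : u ∈ c.P) : u = 1 := by
  refine c.eq_one_of_psi hu ?_
  have h1 := c.conj_pt hu 1
  have h2 : u * c.pt 1 * u⁻¹ = c.pt 1 := by
    rw [← c.pt_f h, c.pt_comm, mul_inv_cancel_right]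
  rw [mul_one, h2] at h1
  exact (c.pt_inj h1).symm

/-- Uniqueness of the normal form `pt x * u`. -/
lemma form_inj {x z : F} {u w : G} (hu : u ∈ c.U) (hw : w ∈ c.U)
    (h : c.pt x * u = c.pt z * w) : x = z ∧ u = w := by
  have h1 : w * u⁻¹ = (c.pt z)⁻¹ * c.pt x := by
    have : w = (c.pt z)⁻¹ * (c.pt x * u) := by rw [h]; group
    rw [this]; group
  have h2 : w * u⁻¹ = 1 := c.U_inf_P (c.U.mul_mem hw (c.U.inv_mem hu))
    (h1 ▸ c.P.mul_mem (c.P.inv_mem (c.pt_mem _)) (c.pt_mem _))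
  have h3 : w = u := mul_inv_eq_one.mp h2
  subst h3
  exact ⟨c.pt_inj (mul_right_cancel h), rfl⟩

/-- Product of normal forms. -/
lemma form_mul {x z : F} {u w : G} (hu : u ∈ c.U) :
    (c.pt x * u) * (c.pt z * w) = c.pt (x + c.psi u * z) * (u * w) := by
  rw [c.pt_add, ← c.conj_pt hu]; group

/-- Inverse of a normal form. -/
lemma form_inv {x : F} {u : G} (hu : u ∈ c.U) :
    (c.pt x * u)⁻¹ = c.pt (-((c.psi u)⁻¹ * x)) * u⁻¹ := by
  rw [c.pt_neg, ← c.psi_inv hu, ← c.conj_pt (c.U.inv_mem hu)]; group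

/-- The element of `P` with coordinate one. -/
noncomputable def s : G := c.pt 1

/-- Its conjugate normalising `U`. -/
noncomputable def t : G := c.y * c.s * c.y⁻¹

lemma s_zpow (a : ℤ) : c.s ^ a = c.pt (a : F) := by
  rw [s, c.pt_zpow, mul_one]

lemma t_zpow (a : ℤ) : c.t ^ a = c.y * c.s ^ a * c.y⁻¹ := by
  rw [t, conj_zpow]

lemma s_mem_nQ : c.s ∈ normalizer (c.Q : Set G) := c.s_norm _ (c.pt_mem 1) (c.f_pt 1)

lemma t_mem_nU : c.t ∈ normalizer (c.U : Set G) := c.t_norm _ (c.pt_mem 1) (c.f_pt 1)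

lemma s_conj_mem (a : ℤ) {r : G} (hr : r ∈ c.Q) : c.s ^ a * r * (c.s ^ a)⁻¹ ∈ c.Q :=
  (mem_normalizer_iff.mp ((normalizer (c.Q : Set G)).zpow_mem c.s_mem_nQ a) r).mp hr

lemma t_mem_nQ : c.t ∈ normalizer (c.Q : Set G) :=
  Subgroup.mul_mem _ (Subgroup.mul_mem _ (le_normalizer c.y_mem) c.s_mem_nQ)
    (Subgroup.inv_mem _ (le_normalizer c.y_mem))

lemma Q_comm {a b : G} (ha : a ∈ c.Q) (hb : b ∈ c.Q) : a * b = b * a := by
  have := c.comm_Q
  exact congrArg Subtype.val (mul_comm' (⟨a, ha⟩ : c.Q) ⟨b, hb⟩)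

/-- `Δ_a r = r (s^a r s^{-a})⁻¹`. -/
noncomputable def dl (a : ℤ) (r : G) : G := r * (c.s ^ a * r * (c.s ^ a)⁻¹)⁻¹

lemma dl_mem (a : ℤ) {r : G} (hr : r ∈ c.Q) : c.dl a r ∈ c.Q :=
  c.Q.mul_mem hr (c.Q.inv_mem (c.s_conj_mem a hr))

lemma dl_y (a : ℤ) : c.dl a c.y = c.t ^ a * (c.s ^ a)⁻¹ := by
  rw [dl, t_zpow]; group

lemma dl_add (a b : ℤ) (r : G) :
    c.dl (a + b) r = c.dl a r * (c.s ^ a * c.dl b r * (c.s ^ a)⁻¹) := by
  simp only [dl, zpow_add]; group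

lemma dl_neg (a : ℤ) (r : G) :
    c.dl (-a) r = (c.s ^ (-a) * c.dl a r * (c.s ^ (-a))⁻¹)⁻¹ := by
  simp only [dl, zpow_neg]; group

lemma dl_comm (a b : ℤ) {r : G} (hr : r ∈ c.Q) : c.dl a (c.dl b r) = c.dl b (c.dl a r) := by
  have key : c.dl a (c.dl b r) = r * (c.s ^ b * r * (c.s ^ b)⁻¹)⁻¹ *
      ((c.s ^ (a + b) * r * (c.s ^ (a + b))⁻¹) * (c.s ^ a * r * (c.s ^ a)⁻¹)⁻¹) := by
    simp only [dl, zpow_add]; group
  have key2 : c.dl b (c.dl a r) = r * (c.s ^ a * r * (c.s ^ a)⁻¹)⁻¹ *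
      ((c.s ^ (b + a) * r * (c.s ^ (b + a))⁻¹) * (c.s ^ b * r * (c.s ^ b)⁻¹)⁻¹) := by
    simp only [dl, zpow_add]; group
  rw [key, key2, add_comm b a]
  set A := (c.s ^ a * r * (c.s ^ a)⁻¹)⁻¹
  set B := (c.s ^ b * r * (c.s ^ b)⁻¹)⁻¹
  set C := c.s ^ (a + b) * r * (c.s ^ (a + b))⁻¹
  have hA : A ∈ c.Q := c.Q.inv_mem (c.s_conj_mem a hr)
  have hB : B ∈ c.Q := c.Q.inv_mem (c.s_conj_mem b hr)
  have hC : C ∈ c.Q := c.s_conj_mem _ hr
  calc r * B * (C * A) = r * (B * (C * A)) := by group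
    _ = r * ((C * A) * B) := by rw [c.Q_comm hB (c.Q.mul_mem hC hA)]
    _ = r * ((A * C) * B) := by rw [c.Q_comm hC hA]
    _ = r * A * (C * B) := by group

include c in
lemma charP : CharP F p := by
  have := Fact.mk c.prime_p
  exact charP_of_card_eq_prime_pow c.card_F

include c in
lemma cast_p : ((p : ℤ) : F) = 0 := by
  have := c.charP
  rw [Int.cast_natCast, CharP.cast_eq_zero]

lemma s_pow_p : c.s ^ (p : ℤ) = 1 := by rw [s_zpow, c.cast_p, c.pt_zero]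

include c in
lemma not_dvd_of_cast {a : ℤ} (ha : (a : F) ≠ 0) : ¬ (p : ℤ) ∣ a := by
  rintro ⟨b, rfl⟩
  exact ha (by rw [Int.cast_mul, c.cast_p, zero_mul])

/-- The exponents `a` with `Δ_a r ∈ V`. -/
noncomputable def dlSet (V : Subgroup G) (hV : c.s ∈ normalizer (V : Set G)) (r : G) :
    AddSubgroup ℤ where
  carrier := {a | c.dl a r ∈ V}
  zero_mem' := by simp [dl]
  add_mem' {a b} ha hb := by
    show c.dl (a + b) r ∈ V
    rw [c.dl_add]
    exact V.mul_mem ha ((mem_normalizer_iff.mp ((normalizer (V : Set G)).zpow_mem hV a) _).mp hb)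
  neg_mem' {a} ha := by
    show c.dl (-a) r ∈ V
    rw [c.dl_neg]
    exact V.inv_mem ((mem_normalizer_iff.mp ((normalizer (V : Set G)).zpow_mem hV (-a)) _).mp ha)

lemma dl_one_of_dl {V : Subgroup G} (hV : c.s ∈ normalizer (V : Set G)) {r : G} {a : ℤ}
    (ha : (a : F) ≠ 0) (h : c.dl a r ∈ V) (b : ℤ) : c.dl b r ∈ V := by
  have hp : (p : ℤ) ∈ c.dlSet V hV r := by
    show c.dl p r ∈ V
    simp [dl, c.s_pow_p]
  have ha' : a ∈ c.dlSet V hV r := h
  have hcop : IsCoprime a (p : ℤ) :=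
    ((Nat.prime_iff_prime_int.mp c.prime_p).coprime_iff_not_dvd.mpr (c.not_dvd_of_cast ha)).symm
  obtain ⟨x, z, hxz⟩ := hcop
  have h1 : (1 : ℤ) ∈ c.dlSet V hV r := by
    rw [← hxz]
    exact add_mem (by simpa [mul_comm] using zsmul_mem ha' x)
      (by simpa [mul_comm] using zsmul_mem hp z)
  have := zsmul_mem h1 b
  simp only [zsmul_eq_mul, Int.cast_eq, mul_one] at this
  exact this

/-- A difference fixed modulo `V` lies in `V`. -/
lemma dl_descend {V : Subgroup G} (hV : c.s ∈ normalizer (V : Set G)) {r : G} (hr : r ∈ c.Q)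
    {a b : ℤ} (ha : (a : F) ≠ 0) (hb : (b : F) ≠ 0) (h : c.dl a (c.dl b r) ∈ V) (d : ℤ) :
    c.dl d r ∈ V := by
  have h1 : c.dl a (c.dl 1 r) ∈ V := by
    rw [c.dl_comm a b hr] at h
    have := c.dl_one_of_dl hV hb h 1
    rwa [c.dl_comm 1 a hr] at this
  set e := c.dl 1 r with he
  have he1 : ∀ m : ℤ, c.dl m e ∈ V := c.dl_one_of_dl hV ha h1
  have key : ∀ m : ℕ, (e ^ m)⁻¹ * c.dl (m : ℤ) r ∈ V := by
    intro m
    induction m with
    | zero => simp [dl]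
    | succ m ih =>
      rw [Nat.cast_succ, c.dl_add, ← he]
      have hcj : c.s ^ (m : ℤ) * e * (c.s ^ (m : ℤ))⁻¹ = e * (c.dl (m : ℤ) e)⁻¹ := by
        have heQ := c.dl_mem 1 hr
        rw [← he] at heQ
        have hq := c.s_conj_mem (m : ℤ) heQ
        have hdd : c.dl (m : ℤ) e = e * (c.s ^ (m : ℤ) * e * (c.s ^ (m : ℤ))⁻¹)⁻¹ := rfl
        rw [hdd, mul_inv_rev, inv_inv, ← mul_assoc, c.Q_comm heQ hq]
        group
      rw [hcj]
      have heQ := c.dl_mem 1 hr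
      have hd := c.dl_mem (m : ℤ) hr
      have hd' := c.dl_mem (m : ℤ) heQ
      have : (e ^ (m + 1))⁻¹ * (c.dl (m : ℤ) r * (e * (c.dl (m : ℤ) e)⁻¹))
          = ((e ^ m)⁻¹ * c.dl (m : ℤ) r) * (c.dl (m : ℤ) e)⁻¹ := by
        calc (e ^ (m + 1))⁻¹ * (c.dl (m : ℤ) r * (e * (c.dl (m : ℤ) e)⁻¹))
            = (e ^ m * e)⁻¹ * ((c.dl (m : ℤ) r * e) * (c.dl (m : ℤ) e)⁻¹) := by
              rw [pow_succ]; group
          _ = (e ^ m * e)⁻¹ * ((e * c.dl (m : ℤ) r) * (c.dl (m : ℤ) e)⁻¹) := by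
              rw [c.Q_comm hd heQ]
          _ = (e * e ^ m)⁻¹ * ((e * c.dl (m : ℤ) r) * (c.dl (m : ℤ) e)⁻¹) := by
              rw [← pow_succ, pow_succ']
          _ = _ := by group
      rw [this]
      exact V.mul_mem ih (V.inv_mem (he1 m))
  have hp := key p
  have hdp : c.dl (p : ℤ) r = 1 := by simp [dl, c.s_pow_p]
  rw [hdp, mul_one, V.inv_mem_iff] at hp
  have hN : e ^ Nat.card c.Q = 1 := by
    have := congrArg Subtype.val (pow_card_eq_one' (x := (⟨e, c.dl_mem 1 hr⟩ : c.Q)))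
    rw [SubgroupClass.coe_pow, OneMemClass.coe_one] at this
    exact this
  have hg : e ^ (Nat.card c.Q).gcd p ∈ V := by
    obtain ⟨x, z, hxz⟩ : ∃ x z : ℤ, ((Nat.card c.Q).gcd p : ℤ) =
        (Nat.card c.Q : ℤ) * x + (p : ℤ) * z := ⟨_, _, Nat.gcd_eq_gcd_ab _ _⟩
    rw [← zpow_natCast, hxz, zpow_add, zpow_mul, zpow_mul, zpow_natCast, hN, one_zpow, one_mul,
      zpow_natCast]
    exact V.zpow_mem hp z
  rw [c.cop_Q, pow_one] at hg
  exact c.dl_one_of_dl hV (a := 1) (by simp) hg d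

/-- An element of `Q` lying in `P` is trivial. -/
lemma Q_inf_P {r : G} (hr : r ∈ c.Q) (hP : r ∈ c.P) : r = 1 := by
  have h1 : r ^ p = 1 := by
    rw [← c.pt_f hP, ← zpow_natCast, c.pt_zpow, c.cast_p, zero_mul, c.pt_zero]
  have h2 : r ^ Nat.card c.Q = 1 := by
    have := congrArg Subtype.val (pow_card_eq_one' (x := (⟨r, hr⟩ : c.Q)))
    rw [SubgroupClass.coe_pow, OneMemClass.coe_one] at this
    exact this
  have h3 : r ^ (Nat.card c.Q).gcd p = 1 := pow_gcd_eq_one.mpr ⟨h2, h1⟩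
  rw [c.cop_Q, pow_one] at h3
  exact h3

/-- Identities coming from the commutativity of `Q`. -/
lemma hex (a b : ℤ) :
    c.s ^ (-a) * c.t ^ b * c.s ^ (a - b) = c.t ^ (b - a) * c.s ^ (-b) * c.t ^ a := by
  have h := c.Q_comm (c.dl_mem a c.y_mem) (c.dl_mem b c.y_mem)
  rw [c.dl_y, c.dl_y] at h
  calc c.s ^ (-a) * c.t ^ b * c.s ^ (a - b)
      = (c.t ^ a)⁻¹ * ((c.t ^ a * (c.s ^ a)⁻¹) * (c.t ^ b * (c.s ^ b)⁻¹)) * c.s ^ a := by group
    _ = (c.t ^ a)⁻¹ * ((c.t ^ b * (c.s ^ b)⁻¹) * (c.t ^ a * (c.s ^ a)⁻¹)) * c.s ^ a := by rw [h]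
    _ = c.t ^ (b - a) * c.s ^ (-b) * c.t ^ a := by group

/-- A nonzero additive subgroup stable under a nontrivial multiplier is everything. -/
lemma span_eq_top {u : G} (hu : u ∈ c.U) (hu1 : u ≠ 1) (Y : AddSubgroup F)
    (hY : ∀ x ∈ Y, c.psi u * x ∈ Y) {x : F} (hx : x ∈ Y) (hx0 : x ≠ 0) : ∀ z, z ∈ Y := by
  classical
  have := Fact.mk c.prime_p
  have := c.charP
  let K : Subring F :=
    { carrier := {a | ∀ z ∈ Y, a * z ∈ Y}
      one_mem' := fun z hz => by simpa using hz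
      mul_mem' := fun {a b} ha hb z hz => by rw [mul_assoc]; exact ha _ (hb _ hz)
      add_mem' := fun {a b} ha hb z hz => by rw [add_mul]; exact Y.add_mem (ha _ hz) (hb _ hz)
      zero_mem' := fun z _ => by simp
      neg_mem' := fun {a} ha z hz => by rw [neg_mul]; exact Y.neg_mem (ha _ hz) }
  let _ : Fintype K := Fintype.ofFinite K
  let _ : Field K := Fintype.fieldOfDomain K
  obtain ⟨m, hm⟩ : ∃ m, Fintype.card K = p ^ m := by
    have hcp : CharP K p := CharP.subring F p K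
    obtain ⟨m, _, hm⟩ := FiniteField.card K p
    exact ⟨m, hm⟩
  have hFK : Nat.card F = Nat.card K ^ Module.finrank K F := Module.natCard_eq_pow_finrank (K := K)
  rw [Nat.card_eq_fintype_card, c.card_F, Nat.card_eq_fintype_card, hm, ← pow_mul] at hFK
  have hq := Nat.pow_right_injective c.prime_p.two_le hFK
  rcases (c.prime_q.eq_one_or_self_of_dvd m ⟨_, hq⟩) with h1 | h1
  · exfalso
    refine hu1 (c.eq_one_of_psi hu ?_)
    set a : K := ⟨c.psi u, hY⟩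
    have ha : a ^ p = a := by
      have := FiniteField.pow_card a
      rwa [hm, h1, pow_one] at this
    have ha' : c.psi u ^ p = c.psi u := congrArg Subtype.val ha
    have h2 : c.psi u ^ (p - 1) = 1 := by
      refine mul_right_cancel₀ (c.psi_ne u hu) ?_
      rw [← pow_succ, Nat.sub_add_cancel c.prime_p.one_le, ha', one_mul]
    have h3 : c.psi u ^ Nat.card c.U = 1 := by
      rw [← c.psi_pow hu]
      have := congrArg Subtype.val (pow_card_eq_one' (x := (⟨u, hu⟩ : c.U)))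
      simp only [SubgroupClass.coe_pow, OneMemClass.coe_one] at this
      rw [this, c.psi_one]
    have h4 : c.psi u ^ (Nat.card c.U).gcd (p - 1) = 1 := pow_gcd_eq_one.mpr ⟨h3, h2⟩
    rwa [c.cop_U, pow_one] at h4
  · intro z
    have hK : (K : Set F) = Set.univ := by
      refine Set.eq_univ_of_forall fun a => ?_
      have hsurj : Function.Surjective (fun b : K => (b : F)) :=
        ((Fintype.bijective_iff_injective_and_card _).mpr
          ⟨Subtype.val_injective, by rw [hm, h1, c.card_F]⟩).2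
      obtain ⟨b, rfl⟩ := hsurj a
      exact b.2
    have hz : z * x⁻¹ ∈ (K : Set F) := by rw [hK]; trivial
    have := hz x hx
    rwa [mul_assoc, inv_mul_cancel₀ hx0, mul_one] at this

lemma exists_ne_one : ∃ u ∈ c.U, u ≠ 1 := by
  by_contra h
  push Not at h
  have h1 : c.U = ⊥ := (Subgroup.eq_bot_iff_forall _).mpr h
  have h2 := c.card_U
  rw [h1, Subgroup.card_bot, one_mul] at h2
  have hp := c.prime_p.two_le
  have h3 : p ^ 1 < p ^ q := Nat.pow_lt_pow_right hp c.prime_q.one_lt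
  rw [pow_one] at h3
  omega

/-- `t` centralises no nontrivial element of `P`. -/
lemma eq_zero_of_commute_t {x : F} (h : c.t * c.pt x = c.pt x * c.t) : x = 0 := by
  by_contra hx
  obtain ⟨u, hu, hu1⟩ := c.exists_ne_one
  let Y : AddSubgroup F :=
    { carrier := {z | c.t * c.pt z * c.t⁻¹ ∈ c.P}
      zero_mem' := by simp [c.pt_zero]
      add_mem' := fun {a b} ha hb => by
        show c.t * c.pt (a + b) * c.t⁻¹ ∈ c.P
        have := c.P.mul_mem ha hb
        rwa [show c.t * c.pt a * c.t⁻¹ * (c.t * c.pt b * c.t⁻¹)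
          = c.t * (c.pt a * c.pt b) * c.t⁻¹ from by group, ← c.pt_add] at this
      neg_mem' := fun {a} ha => by
        show c.t * c.pt (-a) * c.t⁻¹ ∈ c.P
        have := c.P.inv_mem ha
        rwa [show (c.t * c.pt a * c.t⁻¹)⁻¹ = c.t * (c.pt a)⁻¹ * c.t⁻¹ from by group,
          ← c.pt_neg] at this }
  have hY : ∀ z ∈ Y, c.psi u * z ∈ Y := by
    intro z hz
    show c.t * c.pt (c.psi u * z) * c.t⁻¹ ∈ c.P
    rw [← c.conj_pt hu]
    have hu' : c.t * u * c.t⁻¹ ∈ c.U := (mem_normalizer_iff.mp c.t_mem_nU u).mp hu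
    have := c.conj_mem _ hu' _ hz
    convert this using 1
    group
  have hx' : x ∈ Y := by
    show c.t * c.pt x * c.t⁻¹ ∈ c.P
    rw [h, mul_inv_cancel_right]; exact c.pt_mem x
  have h1 : c.t * c.s * c.t⁻¹ * c.s⁻¹ ∈ c.P :=
    c.P.mul_mem (c.span_eq_top hu hu1 Y hY hx' hx 1) (c.P.inv_mem (c.pt_mem 1))
  have h2 : c.t * c.s * c.t⁻¹ * c.s⁻¹ = c.dl 1 (c.dl 1 c.y) := by
    rw [c.dl_y, dl, zpow_one, zpow_one]; group
  rw [h2] at h1
  have h3 : c.dl 1 (c.dl 1 c.y) = 1 := c.Q_inf_P (c.dl_mem 1 (c.dl_mem 1 c.y_mem)) h1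
  have hs : c.s ∈ normalizer ((⊥ : Subgroup G) : Set G) := by
    rw [mem_normalizer_iff]; intro g; simp
  have h4 : c.dl 1 c.y = 1 := by
    simpa using c.dl_descend hs c.y_mem (a := 1) (b := 1) (by simp) (by simp) (by simp [h3]) 1
  rw [c.dl_y, zpow_one, zpow_one, mul_inv_eq_one] at h4
  have h5 : c.s * u * c.s⁻¹ ∈ c.U := by
    rw [← h4]; exact (mem_normalizer_iff.mp c.t_mem_nU u).mp hu
  have h6 : c.s * u * c.s⁻¹ * u⁻¹ = c.pt (1 - c.psi u) := by
    rw [sub_eq_add_neg, c.pt_add, c.pt_neg, ← mul_one (c.psi u), ← c.conj_pt hu]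
    simp only [s]; group
  have h7 : c.pt (1 - c.psi u) = 1 :=
    c.U_inf_P (h6 ▸ c.U.mul_mem h5 (c.U.inv_mem hu)) (c.pt_mem _)
  have h8 : 1 - c.psi u = 0 := c.pt_inj (h7.trans c.pt_zero.symm)
  exact hu1 (c.eq_one_of_psi hu (sub_eq_zero.mp h8).symm)

/-- An element of `P` moved into `P` by `t^{-n} s^k t^n` is trivial. -/
lemma transport_P {n k : ℤ} (hn : (n : F) ≠ 0) (hk : (k : F) ≠ 0) {x z : F}
    (h : c.pt x * (c.t ^ (-n) * c.s ^ k * c.t ^ n) = c.t ^ (-n) * c.s ^ k * c.t ^ n * c.pt z) :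
    x = 0 ∧ z = 0 := by
  set b := c.t ^ (-n) * c.s ^ k * c.t ^ n with hb
  have key : x = 0 := by
    set Z := centralizer ({c.pt x} : Set G) with hZ
    have hs : c.s ∈ Z := mem_centralizer_singleton_iff.mpr (c.pt_comm 1 x)
    set V := c.Q ⊓ Z with hVdef
    have hV : c.s ∈ normalizer (V : Set G) := by
      rw [mem_normalizer_iff]
      intro g
      simp only [hVdef, mem_inf]
      rw [← mem_normalizer_iff.mp c.s_mem_nQ g,
        Z.mul_mem_cancel_right (Z.inv_mem hs), Z.mul_mem_cancel_left hs]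
    set r := c.dl n c.y with hr
    have hrQ : r ∈ c.Q := c.dl_mem n c.y_mem
    set w := c.dl 1 (c.dl k r) with hw
    have hbs : b * c.s * b⁻¹ * c.s⁻¹ = (c.s ^ (-n) * w * (c.s ^ (-n))⁻¹)⁻¹ := by
      set d := c.dl k r with hd
      have hdQ : d ∈ c.Q := c.dl_mem k hrQ
      have hbd : b = (c.s ^ (-n) * d * (c.s ^ (-n))⁻¹)⁻¹ * c.s ^ k := by
        have : b = c.s ^ (-n) * r⁻¹ * c.s ^ k * r * c.s ^ n := by
          rw [hb, hr, c.dl_y]; group
        rw [this, hd, dl]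
        have h2 := c.Q_comm (c.Q.inv_mem hrQ) (c.s_conj_mem k hrQ)
        calc c.s ^ (-n) * r⁻¹ * c.s ^ k * r * c.s ^ n
            = c.s ^ (-n) * (r⁻¹ * (c.s ^ k * r * (c.s ^ k)⁻¹)) * c.s ^ k * c.s ^ n := by group
          _ = c.s ^ (-n) * ((c.s ^ k * r * (c.s ^ k)⁻¹) * r⁻¹) * c.s ^ k * c.s ^ n := by rw [h2]
          _ = _ := by group
      rw [hbd, hw]
      simp only [dl, zpow_one]
      have hsd := c.s_conj_mem 1 hdQ
      rw [zpow_one] at hsd
      have h2 := c.Q_comm (c.Q.inv_mem hdQ) hsd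
      calc _ = c.s ^ (-n) * (d⁻¹ * (c.s * d * c.s⁻¹)) * (c.s ^ (-n))⁻¹ := by group
        _ = c.s ^ (-n) * ((c.s * d * c.s⁻¹) * d⁻¹) * (c.s ^ (-n))⁻¹ := by rw [h2]
        _ = _ := by group
    have hbsZ : b * c.s * b⁻¹ ∈ Z := by
      refine mem_centralizer_singleton_iff.mpr ?_
      calc b * c.s * b⁻¹ * c.pt x
          = b * c.s * (b⁻¹ * (c.pt x * b)) * b⁻¹ := by group
        _ = b * c.s * c.pt z * b⁻¹ := by rw [h]; group
        _ = b * (c.s * c.pt z) * b⁻¹ := by group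
        _ = b * (c.pt z * c.s) * b⁻¹ := by rw [s, c.pt_comm]
        _ = (b * c.pt z) * (c.s * b⁻¹) := by group
        _ = (c.pt x * b) * (c.s * b⁻¹) := by rw [h]
        _ = c.pt x * (b * c.s * b⁻¹) := by group
    have hwQ : w ∈ c.Q := c.dl_mem _ (c.dl_mem _ hrQ)
    have hwV : w ∈ V := by
      have h1 : (c.s ^ (-n) * w * (c.s ^ (-n))⁻¹)⁻¹ ∈ Z :=
        hbs ▸ Z.mul_mem hbsZ (Z.inv_mem hs)
      rw [Z.inv_mem_iff, Z.mul_mem_cancel_right (Z.inv_mem (Z.zpow_mem hs _)),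
        Z.mul_mem_cancel_left (Z.zpow_mem hs _)] at h1
      exact ⟨hwQ, h1⟩
    have h1 : c.dl 1 r ∈ V := c.dl_descend hV hrQ (by simp) hk hwV 1
    have h2 : c.dl 1 c.y ∈ V := c.dl_descend hV c.y_mem (a := 1) (by simp) hn h1 1
    rw [c.dl_y, zpow_one, zpow_one] at h2
    have ht : c.t ∈ Z := (Z.mul_mem_cancel_right (Z.inv_mem hs)).mp h2.2
    exact c.eq_zero_of_commute_t (mem_centralizer_singleton_iff.mp ht)
  refine ⟨key, ?_⟩
  rw [key, c.pt_zero, one_mul] at h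
  have h0 : c.pt z = 1 := by
    calc c.pt z = b⁻¹ * (b * c.pt z) := by group
      _ = 1 := by rw [← h]; group
  exact c.pt_inj (h0.trans c.pt_zero.symm)

end Cfg

end Cfsg.Agent.AppC
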