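import Cfsg.Agent.Lib.OddLocal.AppC.Basic

/-!
# The final configuration: the exchange identity and its rigidity
-/

set_option autoImplicit false

namespace Cfsg.Agent.AppC

open Subgroup

variable {G F : Type*} [Group G] [Field F] [Fintype F] {p q : ℕ} (c : Cfg G F p q)

namespace Cfg

include c in
lemma rat_intCast (a : ℤ) : ((a : F)) ^ p = a := by
  have := Fact.mk c.prime_p
  have := c.charP
  exact map_intCast (frobenius F p) a

lemma eq_one_of_rat {u : G} (hu : u ∈ c.U) (h : c.psi u ^ p = c.psi u) : u = 1 := by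
  refine c.eq_one_of_psi hu ?_
  have h2 : c.psi u ^ (p - 1) = 1 := by
    refine mul_right_cancel₀ (c.psi_ne u hu) ?_
    rw [← pow_succ, Nat.sub_add_cancel c.prime_p.one_le, h, one_mul]
  have h3 : c.psi u ^ Nat.card c.U = 1 := by
    rw [← c.psi_pow hu]
    have := congrArg Subtype.val (pow_card_eq_one' (x := (⟨u, hu⟩ : c.U)))
    simp only [SubgroupClass.coe_pow, OneMemClass.coe_one] at this
    rw [this, c.psi_one]
  have h4 : c.psi u ^ (Nat.card c.U).gcd (p - 1) = 1 := pow_gcd_eq_one.mpr ⟨h3, h2⟩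
  rwa [c.cop_U, pow_one] at h4

lemma scalar_inj {a b : ℤ} {u w : G} (hu : u ∈ c.U) (hw : w ∈ c.U) (ha : (a : F) ≠ 0)
    (h : (a : F) * c.psi u = (b : F) * c.psi w) : u = w ∧ (a : F) = b := by
  have huw : u * w⁻¹ ∈ c.U := c.U.mul_mem hu (c.U.inv_mem hw)
  have h1 : c.psi (u * w⁻¹) = (b : F) / a := by
    rw [c.psi_mul u hu _ (c.U.inv_mem hw), c.psi_inv hw, eq_div_iff ha]
    field_simp [c.psi_ne w hw]
    linear_combination h
  have h2 : u = w :=
    mul_inv_eq_one.mp (c.eq_one_of_rat huw (by rw [h1, div_pow, c.rat_intCast, c.rat_intCast]))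
  subst h2
  exact ⟨rfl, mul_right_cancel₀ (c.psi_ne u hu) h⟩

/-- Every nonzero scalar is a prime field multiple of a multiplier. -/
lemma decomp {x : F} (hx : x ≠ 0) :
    ∃ (κ : ℤ) (W : G), W ∈ c.U ∧ (κ : F) ≠ 0 ∧ x = (κ : F) * c.psi W := by
  classical
  have := Fact.mk c.prime_p
  have := c.charP
  have hne : ∀ i : Fin (p - 1), (((i : ℕ) + 1 : ℤ) : F) ≠ 0 := by
    intro i h
    have h' : (((i : ℕ) + 1 : ℕ) : F) = 0 := by push_cast at h ⊢; exact h
    rw [CharP.cast_eq_zero_iff F p] at h'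
    have := Nat.le_of_dvd (by omega) h'
    have := i.2
    omega
  let φ : Fin (p - 1) × c.U → {x : F // x ≠ 0} := fun z =>
    ⟨(((z.1 : ℕ) + 1 : ℤ) : F) * c.psi z.2, mul_ne_zero (hne _) (c.psi_ne _ z.2.2)⟩
  have hinj : Function.Injective φ := by
    intro a b h
    obtain ⟨h1, h2⟩ := c.scalar_inj a.2.2 b.2.2 (hne _) (congrArg Subtype.val h)
    refine Prod.ext ?_ (Subtype.ext h1)
    push_cast at h2
    have h3 : ((a.1 : ℕ) : F) = ((b.1 : ℕ) : F) := add_right_cancel h2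
    have ha := a.1.2
    have hb := b.1.2
    exact Fin.ext (CharP.natCast_injOn_Iio F p (Set.mem_Iio.mpr (by omega))
      (Set.mem_Iio.mpr (by omega)) h3)
  have hfin : Finite c.U := Nat.finite_of_card_ne_zero (by
    intro h0
    have h1 := c.card_U
    have hq : 1 < p ^ q := Nat.one_lt_pow c.prime_q.ne_zero c.prime_p.one_lt
    rw [h0, zero_mul] at h1
    omega)
  have hcard : Nat.card (Fin (p - 1) × c.U) = Nat.card {x : F // x ≠ 0} := by
    rw [Nat.card_prod, Nat.card_fin, mul_comm, c.card_U]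
    simp [Fintype.card_subtype_compl, c.card_F]
  obtain ⟨z, hz⟩ := ((Nat.bijective_iff_injective_and_card φ).mpr ⟨hinj, hcard⟩).2 ⟨x, hx⟩
  exact ⟨_, z.2, z.2.2, hne _, (congrArg Subtype.val hz).symm⟩

include c in
lemma rat_int {x : F} (h : x ^ p = x) : ∃ a : ℤ, (a : F) = x := by
  rcases eq_or_ne x 0 with rfl | hx
  · exact ⟨0, Int.cast_zero⟩
  obtain ⟨κ, W, hW, hκ, rfl⟩ := c.decomp hx
  rw [mul_pow, c.rat_intCast, mul_right_inj' hκ] at h
  exact ⟨κ, by rw [c.eq_one_of_rat hW h, c.psi_one, mul_one]⟩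

/-- Conjugation by `t^a`. -/
noncomputable def shift (a : ℤ) (u : G) : G := c.t ^ a * u * c.t ^ (-a)

lemma shift_mem (a : ℤ) {u : G} (hu : u ∈ c.U) : c.shift a u ∈ c.U := by
  rw [shift, zpow_neg]
  exact (mem_normalizer_iff.mp ((normalizer (c.U : Set G)).zpow_mem c.t_mem_nU a) u).mp hu

lemma shift_pow (a : ℤ) (u : G) (m : ℕ) : c.shift a (u ^ m) = c.shift a u ^ m := by
  rw [shift, shift, zpow_neg, conj_pow]

lemma shift_shift (a b : ℤ) (u : G) : c.shift a (c.shift b u) = c.shift (a + b) u := by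
  simp only [shift]; group

lemma shift_zero (u : G) : c.shift 0 u = u := by simp [shift]

/-- `t^{-n} s^k t^n`. -/
noncomputable def bel (n k : ℤ) : G := c.t ^ (-n) * c.s ^ k * c.t ^ n

lemma exchange {n C κn κC : ℤ} {g Wn WC : G} (hg : g ∈ c.U) (hWn : Wn ∈ c.U) (hWC : WC ∈ c.U)
    (hn : 1 - c.psi (c.shift n g) = (κn : F) * c.psi Wn)
    (hC : 1 - c.psi (c.shift C g) = (κC : F) * c.psi WC) :
    c.bel C (n * κC) =
      c.pt (((n - C : ℤ) : F) / c.psi (c.shift (-C) WC)) *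
          ((c.shift (-C) WC)⁻¹ * c.shift (-n) Wn) *
        c.bel n (C * κn) *
        (c.pt (-(((n - C : ℤ) : F) * c.psi g / c.psi (c.shift (-n) Wn))) *
          ((c.shift (-n) Wn)⁻¹ * c.shift (-C) WC)) := by
  have hP : ∀ (m κ : ℤ) (γ W : G), γ ∈ c.U → W ∈ c.U → 1 - c.psi γ = (κ : F) * c.psi W →
      W * c.s ^ (m * κ) * W⁻¹ = c.s ^ m * γ * (c.s ^ m)⁻¹ * γ⁻¹ := by
    intro m κ γ W hγ hW h
    rw [c.s_zpow, c.s_zpow, c.conj_pt hW]
    have h2 : c.pt (m : F) * γ * (c.pt (m : F))⁻¹ * γ⁻¹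
        = c.pt (m : F) * (γ * (c.pt (m : F))⁻¹ * γ⁻¹) := by group
    rw [h2, ← c.pt_neg, c.conj_pt hγ, ← c.pt_add]
    congr 1
    push_cast
    linear_combination (-(m : F)) * h
  set vn := c.shift (-n) Wn with hvn
  set vC := c.shift (-C) WC with hvC
  set D : ℤ := n - C with hD
  have hvn' : vn ∈ c.U := c.shift_mem _ hWn
  have hvC' : vC ∈ c.U := c.shift_mem _ hWC
  have main : vC * c.bel C (n * κC) * vC⁻¹ * g
      = c.s ^ D * (vn * c.bel n (C * κn) * vn⁻¹ * g) * c.s ^ (-D) := by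
    have hC1 : vC * c.bel C (n * κC) * vC⁻¹
        = c.t ^ (-C) * (WC * c.s ^ (n * κC) * WC⁻¹) * c.t ^ C := by
      rw [hvC, bel, shift]; group
    have hn1 : vn * c.bel n (C * κn) * vn⁻¹
        = c.t ^ (-n) * (Wn * c.s ^ (C * κn) * Wn⁻¹) * c.t ^ n := by
      rw [hvn, bel, shift]; group
    rw [hC1, hn1, hP n κC _ WC (c.shift_mem C hg) hWC hC,
      hP C κn _ Wn (c.shift_mem n hg) hWn hn]
    have hA : c.t ^ (-C) * c.s ^ n * c.t ^ (C - n) = c.s ^ D * c.t ^ (-n) * c.s ^ C := by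
      have h := c.hex (n - C) (-C)
      have h' : c.t ^ (-C) * c.s ^ n
          = c.s ^ (n - C) * (c.t ^ (-n) * c.s ^ C * c.t ^ (n - C)) := by
        calc c.t ^ (-C) * c.s ^ n
            = c.s ^ (n - C) * (c.s ^ (-(n - C)) * c.t ^ (-C) * c.s ^ (n - C - -C)) := by
              rw [show n - C - -C = n from by ring]; group
          _ = _ := by
              rw [h, show -C - (n - C) = -n from by ring, neg_neg]
      rw [h', hD]; group
    calc c.t ^ (-C) * (c.s ^ n * c.shift C g * (c.s ^ n)⁻¹ * (c.shift C g)⁻¹) * c.t ^ C * g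
        = (c.t ^ (-C) * c.s ^ n * c.t ^ (C - n)) * (c.t ^ n * g * c.t ^ (-n)) *
            (c.t ^ (-C) * c.s ^ n * c.t ^ (C - n))⁻¹ := by simp only [shift]; group
      _ = (c.s ^ D * c.t ^ (-n) * c.s ^ C) * (c.t ^ n * g * c.t ^ (-n)) *
            (c.s ^ D * c.t ^ (-n) * c.s ^ C)⁻¹ := by rw [hA]
      _ = _ := by simp only [shift]; group
  have hX : c.pt ((D : F) / c.psi vC) * (vC⁻¹ * vn) = vC⁻¹ * c.s ^ D * vn := by
    rw [c.s_zpow, div_eq_inv_mul, ← c.psi_inv hvC', ← c.conj_pt (c.U.inv_mem hvC')]; group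
  have hY : c.pt (-((D : F) * c.psi g / c.psi vn)) * (vn⁻¹ * vC)
      = vn⁻¹ * (g * c.s ^ (-D) * g⁻¹) * vC := by
    rw [c.s_zpow, c.conj_pt hg, show -((D : F) * c.psi g / c.psi vn)
      = (c.psi vn)⁻¹ * (c.psi g * ((-D : ℤ) : F)) from by push_cast; ring,
      ← c.psi_inv hvn', ← c.conj_pt (c.U.inv_mem hvn')]
    group
  rw [hX, hY]
  calc c.bel C (n * κC) = vC⁻¹ * (vC * c.bel C (n * κC) * vC⁻¹ * g) * g⁻¹ * vC := by group
    _ = _ := by rw [main]; group

/-- `u`, placed at `x`. -/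
noncomputable def rot (x : F) (u : G) : G := c.pt x * u * (c.pt x)⁻¹

lemma rot_eq {x : F} {u : G} (hu : u ∈ c.U) :
    c.rot x u = c.pt (x * (1 - c.psi u)) * u := by
  rw [rot, show x * (1 - c.psi u) = x + c.psi u * (-x) from by ring, c.pt_add,
    ← c.conj_pt hu, c.pt_neg]
  group

/-- Two rotations which move into rotations under `b` have the same centres. -/
lemma rot_unique {n k : ℤ} (hn : (n : F) ≠ 0) (hk : (k : F) ≠ 0) {x x' z z' : F} {u w : G}
    (hu : u ∈ c.U) (hu1 : u ≠ 1) (hw : w ∈ c.U) (hw1 : w ≠ 1)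
    (h1 : c.rot x u * c.bel n k = c.bel n k * c.rot x' u)
    (h2 : c.rot z w * c.bel n k = c.bel n k * c.rot z' w) : x = z ∧ x' = z' := by
  have hcomm : ∀ a b : F, c.rot a u * c.rot b w * (c.rot b w * c.rot a u)⁻¹
      = c.pt ((a - b) * (1 - c.psi u) * (1 - c.psi w)) := by
    intro a b
    rw [c.rot_eq hu, c.rot_eq hw, c.form_mul hu, c.form_mul hw, c.U_comm hw hu, mul_inv_rev,
      ← mul_assoc, mul_inv_cancel_right, ← c.pt_neg, ← c.pt_add]
    congr 1; ring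
  have h := hcomm x z
  have h' := hcomm x' z'
  have e1 : c.rot x' u = (c.bel n k)⁻¹ * c.rot x u * c.bel n k := by
    rw [mul_assoc, h1, inv_mul_cancel_left]
  have e2 : c.rot z' w = (c.bel n k)⁻¹ * c.rot z w * c.bel n k := by
    rw [mul_assoc, h2, inv_mul_cancel_left]
  have key : c.pt ((x - z) * (1 - c.psi u) * (1 - c.psi w)) * c.bel n k
      = c.bel n k * c.pt ((x' - z') * (1 - c.psi u) * (1 - c.psi w)) := by
    rw [← h, ← h', e1, e2]; group
  obtain ⟨h3, h4⟩ := c.transport_P hn hk key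
  have hU : (1 - c.psi u) ≠ 0 := fun e => hu1 (c.eq_one_of_psi hu (sub_eq_zero.mp e).symm)
  have hW : (1 - c.psi w) ≠ 0 := fun e => hw1 (c.eq_one_of_psi hw (sub_eq_zero.mp e).symm)
  simp only [mul_eq_zero, hU, hW, or_false, sub_eq_zero] at h3 h4
  exact ⟨h3, h4⟩

/-- A conjugate of a multiplier under a power of `t` is one of its powers. -/
lemma shift_eq_zpow (a : ℤ) {u : G} (hu : u ∈ c.U) : ∃ m : ℤ, c.shift a u = u ^ m := by
  classical
  let ψ' : c.U →* F :=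
    { toFun := fun w => c.psi w
      map_one' := c.psi_one
      map_mul' := fun v w => c.psi_mul v v.2 w w.2 }
  have hinj : Function.Injective ψ' := fun v w h => Subtype.ext (c.psi_inj v.2 w.2 h)
  have hfin : Finite c.U := Finite.of_injective ψ' hinj
  have hcyc : IsCyclic c.U := isCyclic_of_subgroup_isDomain ψ' hinj
  let T : c.U →* c.U :=
    { toFun := fun w => ⟨c.shift a w, c.shift_mem a w.2⟩
      map_one' := Subtype.ext (by simp [shift])
      map_mul' := fun v w => Subtype.ext (by simp only [shift, Subgroup.coe_mul]; group) }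
  obtain ⟨m, hm⟩ := MonoidHom.map_cyclic T
  exact ⟨m, by
    have := congrArg Subtype.val (hm ⟨u, hu⟩)
    simpa [T] using this⟩

/-- A multiplier commuting with an element of `L` outside the powers of `s` commutes with `t`. -/
lemma commute_t_of_commute {n k i j : ℤ} (hn : (n : F) ≠ 0) (hk : (k : F) ≠ 0) {u : G}
    (hu : u ∈ c.U) (hu1 : u ≠ 1)
    (h : u * (c.s ^ i * c.bel n k * c.s ^ j) = c.s ^ i * c.bel n k * c.s ^ j * u) :
    c.t * u = u * c.t := by
  set Z := centralizer ({u} : Set G) with hZ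
  have hnZ : ∀ (a : ℤ) {g : G}, g ∈ Z → c.t ^ a * g * (c.t ^ a)⁻¹ ∈ Z := by
    intro a g hg
    obtain ⟨m, hm⟩ := c.shift_eq_zpow (-a) hu
    have hc : Commute g (c.shift (-a) u) := by
      rw [hm]
      have h0 : Commute g u := mem_centralizer_singleton_iff.mp hg
      exact h0.zpow_right m
    refine mem_centralizer_singleton_iff.mpr ?_
    calc c.t ^ a * g * (c.t ^ a)⁻¹ * u
        = c.t ^ a * (g * c.shift (-a) u) * (c.t ^ a)⁻¹ := by simp only [shift]; group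
      _ = c.t ^ a * (c.shift (-a) u * g) * (c.t ^ a)⁻¹ := by rw [hc.eq]
      _ = _ := by simp only [shift]; group
  have hst : ∀ (a : ℤ) {g : G}, g ∈ c.Q →
      c.s ^ a * g * (c.s ^ a)⁻¹ = c.t ^ a * g * (c.t ^ a)⁻¹ := by
    intro a g hg
    have hd := c.dl_mem a c.y_mem
    rw [c.dl_y] at hd
    have hq := c.s_conj_mem a hg
    calc c.s ^ a * g * (c.s ^ a)⁻¹
        = (c.t ^ a * (c.s ^ a)⁻¹) * (c.s ^ a * g * (c.s ^ a)⁻¹) * (c.t ^ a * (c.s ^ a)⁻¹)⁻¹ := by
          rw [c.Q_comm hd hq, mul_inv_cancel_right]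
      _ = _ := by group
  set V := c.Q ⊓ Z with hV
  have hVconj : ∀ (a : ℤ) {g : G}, g ∈ V → c.s ^ a * g * (c.s ^ a)⁻¹ ∈ V := fun a g hg =>
    ⟨c.s_conj_mem a hg.1, by rw [hst a hg.1]; exact hnZ a hg.2⟩
  have hsV : c.s ∈ normalizer (V : Set G) := by
    rw [mem_normalizer_iff]
    intro g
    refine ⟨fun hg => by simpa using hVconj 1 hg, fun hg => ?_⟩
    have := hVconj (-1) hg
    simpa [mul_assoc] using this
  let Y : AddSubgroup F :=
    { carrier := {z | ∀ g ∈ V, c.pt z * g = g * c.pt z}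
      zero_mem' := fun g _ => by simp [c.pt_zero]
      add_mem' := fun {a b} ha hb g hg => by
        rw [c.pt_add, mul_assoc, hb g hg, ← mul_assoc, ha g hg, mul_assoc]
      neg_mem' := fun {a} ha g hg => by
        rw [c.pt_neg]; exact (Commute.inv_left (ha g hg : Commute (c.pt a) g)).eq }
  have huV : ∀ g ∈ V, u * g = g * u := fun g hg =>
    (mem_centralizer_singleton_iff.mp hg.2).symm
  have hY : ∀ z ∈ Y, c.psi u * z ∈ Y := by
    intro z hz g hg
    rw [← c.conj_pt hu]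
    have h0 : Commute u g := huV g hg
    exact ((h0.mul_left (hz g hg)).mul_left h0.inv_left).eq
  have h1 : 1 - c.psi u ∈ Y := by
    intro g hg
    have e : c.pt (1 - c.psi u) = c.s * u * c.s⁻¹ * u⁻¹ := by
      rw [sub_eq_add_neg, c.pt_add, c.pt_neg, ← mul_one (c.psi u), ← c.conj_pt hu]
      simp only [s]; group
    rw [e]
    have h2 : Commute (c.s * u * c.s⁻¹) g := by
      have := huV _ (hVconj (-1) hg)
      calc c.s * u * c.s⁻¹ * g
          = c.s * (u * (c.s ^ (-1 : ℤ) * g * (c.s ^ (-1 : ℤ))⁻¹)) * c.s⁻¹ := by group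
        _ = c.s * (c.s ^ (-1 : ℤ) * g * (c.s ^ (-1 : ℤ))⁻¹ * u) * c.s⁻¹ := by rw [this]
        _ = g * (c.s * u * c.s⁻¹) := by group
    exact (h2.mul_left (Commute.inv_left (huV g hg))).eq
  have hs : ∀ g ∈ V, c.s * g = g * c.s :=
    c.span_eq_top hu hu1 Y hY h1
      (fun e => hu1 (c.eq_one_of_psi hu (sub_eq_zero.mp e).symm)) 1
  let I : Subgroup G :=
    { carrier := {g | ∃ r ∈ c.Q, g = c.dl 1 r}
      one_mem' := ⟨1, c.Q.one_mem, by simp [dl]⟩
      mul_mem' := by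
        rintro _ _ ⟨r, hr, rfl⟩ ⟨r', hr', rfl⟩
        refine ⟨r * r', c.Q.mul_mem hr hr', ?_⟩
        simp only [dl]
        have h0 := c.Q_comm (c.Q.inv_mem (c.s_conj_mem 1 hr)) hr'
        have h3 := c.Q_comm (c.Q.inv_mem (c.s_conj_mem 1 hr)) (c.Q.inv_mem (c.s_conj_mem 1 hr'))
        calc r * (c.s ^ (1 : ℤ) * r * (c.s ^ (1 : ℤ))⁻¹)⁻¹ *
              (r' * (c.s ^ (1 : ℤ) * r' * (c.s ^ (1 : ℤ))⁻¹)⁻¹)
            = r * ((c.s ^ (1 : ℤ) * r * (c.s ^ (1 : ℤ))⁻¹)⁻¹ * r') *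
                (c.s ^ (1 : ℤ) * r' * (c.s ^ (1 : ℤ))⁻¹)⁻¹ := by group
          _ = r * r' * ((c.s ^ (1 : ℤ) * r * (c.s ^ (1 : ℤ))⁻¹)⁻¹ *
                (c.s ^ (1 : ℤ) * r' * (c.s ^ (1 : ℤ))⁻¹)⁻¹) := by rw [h0]; group
          _ = r * r' * ((c.s ^ (1 : ℤ) * r' * (c.s ^ (1 : ℤ))⁻¹)⁻¹ *
                (c.s ^ (1 : ℤ) * r * (c.s ^ (1 : ℤ))⁻¹)⁻¹) := by rw [h3]
          _ = _ := by group
      inv_mem' := by
        rintro _ ⟨r, hr, rfl⟩
        refine ⟨r⁻¹, c.Q.inv_mem hr, ?_⟩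
        simp only [dl, mul_inv_rev, inv_inv]
        have h0 := c.Q_comm (c.s_conj_mem 1 hr) (c.Q.inv_mem hr)
        rw [h0]; group }
  have hsI : c.s ∈ normalizer (I : Set G) := by
    have key : ∀ (a : ℤ) (g : G), g ∈ I → c.s ^ a * g * (c.s ^ a)⁻¹ ∈ I := by
      rintro a _ ⟨r, hr, rfl⟩
      exact ⟨_, c.s_conj_mem a hr, by simp only [dl]; group⟩
    rw [mem_normalizer_iff]
    intro g
    refine ⟨fun hg => by simpa using key 1 g hg, fun hg => ?_⟩
    have := key (-1) _ hg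
    simpa [mul_assoc] using this
  have hIy : ∀ m : ℤ, c.dl m c.y ∈ I :=
    c.dl_one_of_dl hsI (a := 1) (by simp) ⟨c.y, c.y_mem, rfl⟩
  set a := i + k + j with ha
  set x := c.s ^ i * c.bel n k * c.s ^ j * c.t ^ (-a) with hx
  have hxI : x ∈ I := by
    have e : x = (c.s ^ i * c.dl (-n) c.y * (c.s ^ i)⁻¹) *
        (c.s ^ (i - n + k) * c.dl n c.y * (c.s ^ (i - n + k))⁻¹) * (c.dl a c.y)⁻¹ := by
      rw [hx, ha, c.dl_y, c.dl_y, c.dl_y, bel]; group
    rw [e]
    exact I.mul_mem (I.mul_mem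
      ((mem_normalizer_iff.mp ((normalizer (I : Set G)).zpow_mem hsI i) _).mp (hIy _))
      ((mem_normalizer_iff.mp ((normalizer (I : Set G)).zpow_mem hsI _) _).mp (hIy _)))
      (I.inv_mem (hIy _))
  obtain ⟨r, hr, hxr⟩ := hxI
  have hxQ : x ∈ c.Q := hxr ▸ c.dl_mem 1 hr
  have hcZ : x * c.t ^ a ∈ Z := mem_centralizer_singleton_iff.mpr (by
    rw [hx, zpow_neg, inv_mul_cancel_right]; exact h.symm)
  have hdV : c.dl 1 x ∈ V := by
    refine ⟨c.dl_mem 1 hxQ, ?_⟩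
    have h2 := Z.mul_mem hcZ (Z.inv_mem (hnZ 1 hcZ))
    show c.dl 1 x ∈ Z
    convert h2 using 1
    rw [dl, hst 1 hxQ]; group
  have hfix : c.dl 1 (c.dl 1 x) = 1 := by
    rw [dl, zpow_one, hs _ hdV, mul_inv_cancel_right, mul_inv_cancel]
  have hbot : c.s ∈ normalizer ((⊥ : Subgroup G) : Set G) := by
    rw [mem_normalizer_iff]; intro g; simp
  have h3 : c.dl 1 x = 1 := by
    simpa using c.dl_descend hbot hxQ (a := 1) (b := 1) (by simp) (by simp) (by simp [hfix]) 1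
  have h4 : x = 1 := by
    rw [hxr] at h3 ⊢
    simpa using c.dl_descend hbot hr (a := 1) (b := 1) (by simp) (by simp) (by simp [h3]) 1
  rw [h4, one_mul] at hcZ
  by_cases ha0 : (a : F) = 0
  · exfalso
    have hta : c.t ^ a = 1 := by rw [c.t_zpow, c.s_zpow, ha0, c.pt_zero]; group
    have hb : c.bel n k = c.s ^ (-i - j) := by
      rw [hx, zpow_neg, hta, inv_one, mul_one] at h4
      calc c.bel n k = (c.s ^ i)⁻¹ * (c.s ^ i * c.bel n k * c.s ^ j) * (c.s ^ j)⁻¹ := by group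
        _ = _ := by rw [h4]; group
    have := c.transport_P hn hk (x := 1) (z := 1) (by
      show c.pt 1 * c.bel n k = c.bel n k * c.pt 1
      rw [hb, c.s_zpow, c.pt_comm])
    exact one_ne_zero this.1
  · have hcop : IsCoprime a (p : ℤ) :=
      ((Nat.prime_iff_prime_int.mp c.prime_p).coprime_iff_not_dvd.mpr
        (c.not_dvd_of_cast ha0)).symm
    obtain ⟨x₁, z₁, hxz⟩ := hcop
    have htp : c.t ^ (p : ℤ) = 1 := by rw [c.t_zpow, c.s_pow_p]; group
    have ht : c.t ∈ Z := by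
      have e : c.t = (c.t ^ a) ^ x₁ * (c.t ^ (p : ℤ)) ^ z₁ := by
        rw [← zpow_mul, ← zpow_mul, ← zpow_add, mul_comm a, mul_comm (p : ℤ), hxz, zpow_one]
      rw [e, htp, one_zpow, mul_one]
      exact Z.zpow_mem hcZ _
    exact mem_centralizer_singleton_iff.mp ht

end Cfg

end Cfsg.Agent.AppC
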